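import Cfsg.Agent.Lib.Sporadic.HNIndex.Lower

/-!
# The presented group is simple of the order of the Harada-Norton group
-/

set_option autoImplicit false
set_option maxRecDepth 100000

namespace CfsgLib.Sporadic.CosetCert.HNIndex

open OutCert Cfsg.Spor HNDouble

attribute [local irreducible] lk pkF allF compK oneK validK tX tXi tY tYi tZ chainH chainC steps
  paths covers chainsK

theorem card_HN : Nat.card HN = 273030912000000 := by
  have h := N0.card_mul_index
  rw [index_N0, card_N0_eq] at h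
  rw [← h]

theorem sizes_sum : ∀ s : Finset (Fin 9), (0 : Fin 9) ∈ s →
    (∑ i ∈ s, [1, 1408, 35200, 2200, 123200, 354816, 739200, 277200, 5775].getD (i : ℕ) 0) ∣ 1539000 →
    s = {0} ∨ s = Finset.univ := by decide +kernel

theorem path_one : (pathP 1).map dw = [[]] := by decide +kernel

theorem gN_one : gN 1 = gT := by
  have e := path_one
  unfold gN
  obtain ⟨a, ha⟩ : ∃ a, pathP 1 = [a] := List.length_eq_one_iff.1 (by simpa using congrArg List.length e)
  rw [ha, List.map_singleton, List.singleton_inj] at e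
  rw [ha, List.map_singleton, List.prod_singleton, e, hv_nil, one_mul]

theorem maximal_N0 (L : Subgroup HN) (hL : N0 ≤ L) : L = N0 ∨ L = ⊤ := by
  classical
  let s : Finset (Fin 9) := Finset.univ.filter fun i => gN i ∈ L
  let F : (Σ i : s, N0 ⧸ nodeStab (i : Fin 9)) → {c : HN ⧸ N0 // ∀ g : HN, (g : HN ⧸ N0) = c → g ∈ L} :=
    fun x => ⟨orbMap ⟨x.1, x.2⟩, by
      obtain ⟨⟨i, hi⟩, b⟩ := x
      induction b using QuotientGroup.induction_on with
      | _ b =>
        intro g hg
        have hi' : gN i ∈ L := (Finset.mem_filter.1 hi).2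
        change (g : HN ⧸ N0) = (((b : HN) * (gN i)⁻¹ : HN) : HN ⧸ N0) at hg
        rw [QuotientGroup.eq] at hg
        have := L.mul_mem (mul_mem (hL b.2) (inv_mem hi')) (inv_mem (hL hg))
        simpa only [mul_inv_rev, inv_inv, mul_assoc, inv_mul_cancel_left, mul_inv_cancel, mul_one,
          mul_inv_cancel_left, inv_mul_cancel] using this⟩
  have hF : Function.Bijective F := by
    constructor
    · intro x y e
      have e' := orbMap_injective (congrArg Subtype.val e)
      obtain ⟨⟨i, hi⟩, a⟩ := x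
      obtain ⟨⟨j, hj⟩, b⟩ := y
      obtain ⟨rfl, e2⟩ := Sigma.mk.inj_iff.1 e'
      exact congrArg (Sigma.mk (⟨i, hi⟩ : s)) (eq_of_heq e2)
    · rintro ⟨c, hc⟩
      obtain ⟨⟨i, b⟩, rfl⟩ := orbMap_surjective c
      have hi : i ∈ s := by
        induction b using QuotientGroup.induction_on with
        | _ b =>
          have := hc ((b : HN) * (gN i)⁻¹) rfl
          refine Finset.mem_filter.2 ⟨Finset.mem_univ _, ?_⟩
          simpa using inv_mem (mul_mem (inv_mem (hL b.2)) this)
      exact ⟨⟨⟨i, hi⟩, b⟩, rfl⟩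
  have : Finite (HN ⧸ N0) := Finite.of_surjective _ orbMap_surjective
  have hcard := Nat.card_congr (Equiv.ofBijective F hF)
  let G : L ⧸ N0.subgroupOf L → {c : HN ⧸ N0 // ∀ g : HN, (g : HN ⧸ N0) = c → g ∈ L} := fun c =>
    Quotient.liftOn' c (fun l => ⟨((l : HN) : HN ⧸ N0), fun g hg => by
      rw [QuotientGroup.eq] at hg
      simpa using mul_mem (L.mul_mem l.2 (inv_mem (hL hg))) (one_mem L)⟩) fun a b h => by
      rw [QuotientGroup.leftRel_apply, Subgroup.mem_subgroupOf] at h
      exact Subtype.ext (QuotientGroup.eq.2 (by simpa using h))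
  have hG : Function.Bijective G := by
    constructor
    · intro a b
      induction a using QuotientGroup.induction_on with
      | _ a =>
        induction b using QuotientGroup.induction_on with
        | _ b =>
          intro e
          have := QuotientGroup.eq.1 (congrArg Subtype.val e)
          exact QuotientGroup.eq.2 (by simpa [Subgroup.mem_subgroupOf] using this)
    · rintro ⟨c, hc⟩
      induction c using QuotientGroup.induction_on with
      | _ g => exact ⟨QuotientGroup.mk (⟨g, hc g rfl⟩ : L), rfl⟩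
  have hrel : N0.relIndex L = ∑ i ∈ s, [1, 1408, 35200, 2200, 123200, 354816, 739200, 277200, 5775].getD (i : ℕ) 0 := by
    have e := (Nat.card_congr (Equiv.ofBijective G hG)).trans hcard.symm
    refine e.trans ?_
    rw [Nat.card_sigma, ← Finset.sum_coe_sort s]
    exact Finset.sum_congr rfl fun i _ => index_nodeStab (i : Fin 9)
  have hdvd : N0.relIndex L ∣ 1539000 := by
    have := Subgroup.relIndex_mul_index hL
    rw [index_N0] at this
    exact Dvd.intro _ this
  have h0 : (0 : Fin 9) ∈ s := Finset.mem_filter.2 ⟨Finset.mem_univ _, by rw [Fin.val_zero, gN_zero]; exact one_mem L⟩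
  rcases sizes_sum s h0 (hrel ▸ hdvd) with hs | hs
  · left
    refine le_antisymm (Subgroup.relIndex_eq_one.1 ?_) hL
    rw [hrel, hs]
    rfl
  · right
    rw [eq_top_iff]
    intro g _
    obtain ⟨i, hi, n, hn⟩ := exists_node g
    have hgi : gN i ∈ L :=
      (Finset.mem_filter.1 (show (⟨i, hi⟩ : Fin 9) ∈ s by rw [hs]; exact Finset.mem_univ _)).2
    have := mul_mem (hL hn) (mul_mem hgi (hL n.2))
    rwa [inv_mul_cancel_right] at this

theorem card_fix0 : 126000 ≤ Nat.card (fixes [0]) := by
  have h := levW_card levC (fixes [0]) levC_ok.1 fun L hL g hg => by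
    simp only [levC, List.mem_map] at hL
    obtain ⟨t, -, rfl⟩ := hL
    simp only [List.mem_map] at hg
    obtain ⟨w, -, rfl⟩ := hg
    rw [ev_expandC]
    refine Subgroup.list_prod_mem _ fun a ha => ?_
    simp only [List.mem_map] at ha
    obtain ⟨k, -, rfl⟩ := ha
    rcases lt_or_ge k centGens.length with hk | hk
    · rw [List.getD_eq_getElem _ _ hk]
      exact (centGens_mem _ (List.getElem_mem hk)).1
    · rw [List.getD_eq_default _ _ hk]
      exact one_mem _
  rw [levC_ok.2.1] at h
  exact le_trans (Nat.le_mul_of_pos_right _ Nat.card_pos) h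

theorem nodeStab_one : nodeStab 1 = fixes [0] := by
  refine (Subgroup.eq_of_le_of_card_ge ?_ ((card_nodeStab_le 1).trans card_fix0)).symm
  intro g hg
  have hc : Commute (g : HN) gT :=
    Subgroup.mem_centralizer_singleton_iff.1 (fixes_le_commT hg)
  show g ∈ nodeStab 1
  rw [mem_nodeStab, gN_one, ← hc.eq]
  exact Eqv.mem g gT

theorem base_words : ([(0, []), (4, [4]), (6, [3, 4]), (7, [0, 3, 4]), (8, [0, 2, 4]), (9, [2, 0, 2, 4])] :
    List (ℕ × List ℕ)).map (fun e => e.1) = baseB ∧
    ([(0, []), (4, [4]), (6, [3, 4]), (7, [0, 3, 4]), (8, [0, 2, 4]), (9, [2, 0, 2, 4])] :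
    List (ℕ × List ℕ)).all (fun e => Nat.beq (run e.2 0) e.1) = true := by decide +kernel

theorem eq_bot_of_le_N0 {M : Subgroup HN} (hM : M.Normal) (hle : M ≤ N0) : M = ⊥ := by
  rw [eq_bot_iff]
  intro m hm
  rw [Subgroup.mem_bot]
  have key : ∀ n : N0, (n : HN) ∈ M → n ∈ fixes [0] := fun n hn => by
    rw [← nodeStab_one, mem_nodeStab, gN_one]
    exact hle (hM.conj_mem _ hn gT)
  have hfix : (⟨m, hle hm⟩ : N0) ∈ fixes baseB := by
    intro i hi
    rw [← base_words.1, List.mem_map] at hi
    obtain ⟨⟨b, w⟩, he, hb⟩ := hi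
    have hw := List.all_eq_true.1 base_words.2 _ he
    rw [Nat.beq_eq] at hw
    have hk := key ((ev w)⁻¹ * ⟨m, hle hm⟩ * ev w) (by
      simpa using hM.conj_mem _ hm ((ev w : HN)⁻¹)) 0 (by simp)
    have e : phi (ev w) 0 = i := Fin.ext ((run_eq w 0).symm.trans (hw.trans hb))
    rw [map_mul, map_mul, Equiv.Perm.mul_apply, Equiv.Perm.mul_apply, e, map_inv,
      Equiv.Perm.inv_eq_iff_eq, e] at hk
    exact hk
  rw [fixes_base, Subgroup.mem_bot] at hfix
  exact congrArg Subtype.val hfix

theorem eq_top_of_sup {M : Subgroup HN} (hM : M.Normal) (h : M ⊔ N0 = ⊤) : M = ⊤ := by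
  obtain ⟨q, hq⟩ : ∃ q, q = QuotientGroup.mk' M := ⟨_, rfl⟩
  have hq' : ∀ g, q g = 1 → g ∈ M := fun g hg => by
    rw [hq] at hg
    exact (QuotientGroup.eq_one_iff g).1 hg
  have hcomm : q (gX ^ 2) * q gT = q gT * q (gX ^ 2) := by
    have ht : gT ∈ M ⊔ N0 := h ▸ Subgroup.mem_top gT
    obtain ⟨a, ha, b, hb, e⟩ := Subgroup.mem_sup_of_normal_left.1 ht
    have ha' : q a = 1 := by rw [hq]; exact (QuotientGroup.eq_one_iff a).2 ha
    have e2 := Subgroup.mem_center_iff.1 sq_facts.1 ⟨b, hb⟩
    have e3 : b * gX ^ 2 = gX ^ 2 * b := congrArg Subtype.val e2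
    rw [← e, map_mul, ha', one_mul, ← map_mul, ← map_mul, e3]
  obtain ⟨h5, hx, -, hz3⟩ := t_rels
  obtain ⟨r1, -, -, r4, r5, -, r7, -, -, r10⟩ := hn_rels
  have hx4 : gX ^ 2 * gX ^ 2 = 1 := by
    have h := pow_orderOf_eq_one (nX ^ 2)
    rw [sq_facts.2, pow_two (nX ^ 2)] at h
    exact congrArg Subtype.val h
  have hqt : q gT = 1 := by
    have e := congrArg q gT_rev
    rw [map_mul, map_mul, hcomm, mul_assoc, ← map_mul, hx4, map_one, mul_one, map_inv] at e
    have e2 : q gT ^ 2 = 1 := by
      rw [pow_two]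
      nth_rewrite 1 [← e]
      exact inv_mul_cancel _
    have e5 : q gT ^ 5 = 1 := by rw [← map_pow, h5, map_one]
    calc q gT = q gT ^ 5 * ((q gT ^ 2) ^ 2)⁻¹ := by group
      _ = 1 := by rw [e5, e2]; simp
  have hqz : q gZ = 1 := by
    have e3 : q gZ ^ 3 = 1 := by
      have := congrArg q hz3
      rwa [map_pow, map_mul, hqt, mul_one, map_one] at this
    have e2 : q gZ ^ 2 = 1 := by rw [← map_pow, r7, map_one]
    calc q gZ = q gZ ^ 3 * (q gZ ^ 2)⁻¹ := by group
      _ = 1 := by rw [e3, e2]; simp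
  have hqx : q gX = 1 := by
    have e3 : q gX ^ 3 = 1 := by
      have := congrArg q r10
      simp only [map_mul, map_pow, map_inv, hqz, one_mul, mul_one, inv_mul_cancel, map_one] at this
      exact this
    have e4 : q gX ^ 4 = 1 := by
      rw [← map_pow, show gX ^ 4 = gX ^ 2 * gX ^ 2 by group, hx4, map_one]
    calc q gX = q gX ^ 4 * (q gX ^ 3)⁻¹ := by group
      _ = 1 := by rw [e3, e4]; simp
  have hqy : q gY = 1 := by
    have e15 : q gY ^ 15 = 1 := by
      have := congrArg q r4
      simp only [map_pow, map_mul, map_inv, hqx, inv_one, one_mul, mul_one, map_one] at this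
      rw [← this]
      group
    have e6 : q gY ^ 6 = 1 := by rw [← map_pow, r1, map_one]
    have e8 : q gY ^ 8 = 1 := by
      have := congrArg q r5
      simpa [hqx] using this
    calc q gY = q gY ^ 15 * (q gY ^ 8)⁻¹ * (q gY ^ 6)⁻¹ := by group
      _ = 1 := by rw [e15, e8, e6]; simp
  rw [eq_top_iff, ← PresentedGroup.closure_range_of, Subgroup.closure_le]
  rintro _ ⟨a, rfl⟩
  cases a
  · exact hq' _ hqx
  · exact hq' _ hqy
  · exact hq' _ hqz
  · exact hq' _ hqt

theorem isSimple_HN : IsSimpleGroup HN := by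
  have : Nontrivial HN := by
    have : Finite HN := Nat.finite_of_card_ne_zero (by rw [card_HN]; norm_num)
    exact Finite.one_lt_card_iff_nontrivial.1 (by rw [card_HN]; norm_num)
  refine ⟨fun M hM => ?_⟩
  rcases maximal_N0 (M ⊔ N0) le_sup_right with h | h
  · exact Or.inl (eq_bot_of_le_N0 hM (h ▸ le_sup_left))
  · exact Or.inr (eq_top_of_sup hM h)

end CfsgLib.Sporadic.CosetCert.HNIndex
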