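import Mathlib.Data.Nat.Notation

/-!
# A chain of orbits in the centraliser of `t`; the words are in its generators
-/

set_option autoImplicit false
set_option maxRecDepth 100000

namespace CfsgLib.Sporadic.CosetCert.HNIndex

/-- The chain. -/
def chainC : List (ℕ × List ℕ × List (ℕ × ℕ × ℕ)) := [(4, [0x1, 0x2, 0x3, 0x4], [(13, 4, 0), (47, 4, 1), (6, 4, 2), (46, 4, 3), (140, 13, 0), (48, 13, 1), (308, 47, 1), (78, 6, 2), (141, 46, 3), (77, 140, 0), (161, 140, 1), (389, 140, 3), (144, 308, 0), (40, 308, 1), (265, 78, 3), (142, 141, 2), (596, 77, 1), (106, 77, 3), (223, 161, 0), (175, 161, 1), (162, 161, 2), (143, 144, 0), (1052, 144, 1), (793, 144, 3), (167, 40, 0), (39, 40, 2), (163, 265, 0), (302, 265, 2), (148, 142, 1), (1051, 142, 3), (36, 596, 0), (595, 596, 2), (150, 106, 0), (105, 106, 2), (70, 162, 3), (794, 793, 0), (35, 793, 2), (149, 167, 3), (956, 163, 1), (964, 148, 0), (69, 70, 0), (127, 35, 1), (957, 956, 2), (128, 964, 3),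 (799, 69, 0), (842, 69, 1), (129, 127, 0), (800, 957, 2), (841, 842, 0)]), (6, [0xd3, 0x29c, 0x61, 0x723, 0x8e3], [(141, 6, 0), (47, 6, 2), (175, 6, 3), (149, 141, 0), (1051, 141, 3), (596, 141, 4), (265, 47, 1), (140, 47, 2), (39, 47, 3), (302, 175, 0), (223, 175, 1), (13, 175, 3), (956, 175, 4), (150, 149, 0), (964, 149, 1), (595, 149, 4), (1052, 1051, 0), (144, 1051, 1), (143, 1051, 2), (35, 1051, 3), (70, 596, 2), (167, 596, 3), (161, 265, 0), (842, 265, 1), (162, 265, 4), (794, 140, 1), (106, 39, 3), (46, 13, 0), (308, 13, 2), (142, 13, 3), (163, 964, 1), (78, 595, 2), (793, 144, 1), (148, 144, 4), (129, 70, 1), (127, 842, 0), (128, 842, 2), (957, 162, 0), (77, 162, 2), (69, 163, 2), (40, 793, 2)]), (7, [0x8e3, 0xd329c, 0xc31c6d3, 0xd372329c723], [(222, 7, 0), (307, 7, 2), (795, 222, 1), (963, 307, 3)]), (8, [0x53861, 0xd329c, 0x238cc31c6d328a, 0x6130b91b4cc2514d3], [(171, 8, 0), (172, 8, 1), (716, 8, 2), (263, 8, 3), (33, 171, 3)]),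 (9, [0x1a653853861], [(717, 9, 0)])]

end CfsgLib.Sporadic.CosetCert.HNIndex
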