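import Cfsg.Agent.Lib.Sporadic.HNIndex.PermData
import Cfsg.Agent.Lib.Sporadic.HNIndex.CentData
import Cfsg.Agent.Lib.Sporadic.OutCert.Perm

/-!
# Kernel checks on the action of `2.HS:2` on 1408 points
-/

set_option autoImplicit false
set_option maxRecDepth 100000

namespace CfsgLib.Sporadic.CosetCert.HNIndex

open OutCert

/-- The number of a letter: `x, x⁻¹, y, y⁻¹, z`. -/
noncomputable def keyL (c : ℕ) : ℕ :=
  List.getD [tX, tXi, tY, tYi, tZ] c (oneK 11 1408)

/-- Image of a point under a word. -/
noncomputable def run (L : List ℕ) (q : ℕ) : ℕ :=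
  List.rec (motive := fun _ => ℕ) q (fun c _ ih => lk 11 (keyL c) ih) L

/-- A word from a packed number: three bits for each letter, shifted by one. -/
noncomputable def dw (n : ℕ) : List ℕ :=
  Nat.rec (motive := fun _ => ℕ → List ℕ) (fun _ => [])
    (fun _ ih m => Bool.rec (motive := fun _ => List ℕ)
      (Nat.sub (Nat.mod m 8) 1 :: ih (Nat.div m 8)) [] (Nat.beq m 0)) 512 n

/-- A base point, words for some elements, and the rest of the orbit with predecessors. -/
abbrev Lev : Type := ℕ × List (List ℕ) × List (ℕ × ℕ × ℕ)

/-- Every listed point is new and comes from an earlier one. -/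
noncomputable def orbW (gens : List (List ℕ)) : List (ℕ × ℕ × ℕ) → ℕ → Option ℕ
  | [], m => some m
  | (p, q, k) :: l, m =>
    bif Nat.blt k gens.length && (Nat.testBit m q && (!(Nat.testBit m p) &&
      (Nat.blt q 1408 && (Nat.blt p 1408 && Nat.beq (run (gens.getD k []) q) p))))
    then orbW gens l (m ||| 2 ^ p) else none

/-- The mask of all points. -/
def allPts : ℕ := 2 ^ 1408 - 1

/-- The chain is right. -/
noncomputable def levW : List Lev → Bool
  | [] => true
  | (b, gens, orb) :: r => Nat.blt b 1408 && ((orbW gens orb (2 ^ b)).isSome &&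
      ((r.all fun M => M.2.1.all fun g => Nat.beq (run g b) b) && levW r))

/-- Two words agree on the base. -/
noncomputable def eqW (u v : List ℕ) : Bool :=
  baseB.all fun b => Nat.beq (run u b) (run v b)

/-- The chain of the whole group. -/
noncomputable def levH : List Lev := chainH.map fun t => (t.1, t.2.1.map dw, t.2.2)

/-- The two generators of the centraliser and their inverses. -/
def centGens : List (List ℕ) := [[2], [1, 2, 0], [3], [1, 3, 0]]

/-- A word in the generators of the centraliser as a word in the letters. -/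
noncomputable def expandC (L : List ℕ) : List ℕ := (L.map fun k => centGens.getD k []).flatten

/-- The chain of the centraliser. -/
noncomputable def levC : List Lev := chainC.map fun t => (t.1, t.2.1.map fun w => expandC (dw w), t.2.2)

theorem keys_ok : validK 11 1408 tX tXi = true ∧ validK 11 1408 tY tYi = true ∧
    validK 11 1408 tZ tZ = true := by decide +kernel

theorem rels_ok : testK 11 1408 [tY] 6 = true ∧ testK 11 1408 [tX, tX, tY, tX, tX, tYi] 1 = true ∧
    testK 11 1408 [tXi, tYi, tX, tY] 3 = true ∧
    testK 11 1408 [tXi, tY, tY, tX, tY, tY, tY] 3 = true ∧ testK 11 1408 [tX, tY] 8 = true := by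
  decide +kernel

theorem rels_ok' : testK 11 1408 [tX, tY, tX, tY, tY, tY] 4 = true ∧ testK 11 1408 [tZ] 2 = true ∧
    testK 11 1408 [tZ, tX] 2 = true ∧
    testK 11 1408 [tZ, tY, tXi, tYi, tYi, tXi, tYi, tXi, tYi, tZ, tY, tX, tY, tX, tY, tY, tX, tYi, tXi, tXi] 1 =
      true ∧
    testK 11 1408 ([tZ] ++ (List.replicate 3
      [tYi, tXi, tYi, tXi, tYi, tYi, tYi, tZ, tY, tY, tY, tX, tY, tX, tY, tX]).flatten) 1 = true := by
  decide +kernel

theorem levH_ok : levW levH = true ∧ (levH.map fun L => L.2.2.length + 1).prod = 177408000 ∧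
    levH.map (fun L => L.1) = baseB := by decide +kernel

theorem levH_first : (levH.map fun L => (L.1, L.2.2.length + 1)).take 1 = [(0, 1408)] := by decide +kernel

theorem levC_ok : levW levC = true ∧ (levC.map fun L => L.2.2.length + 1).prod = 126000 ∧
    (centGens.all fun g => Nat.beq (run g 0) 0) = true := by decide +kernel

end CfsgLib.Sporadic.CosetCert.HNIndex
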