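import Cfsg.Agent.Lib.Sporadic.HNDouble.Double
import Cfsg.Agent.Lib.Sporadic.HNIndex.Checks

/-!
# The action of `⟨x, y, z⟩` on 1408 points, and the centraliser of `t` in it
-/

set_option autoImplicit false
set_option maxRecDepth 100000

namespace CfsgLib.Sporadic.CosetCert.HNIndex

open OutCert Cfsg.Spor HNDouble

attribute [local irreducible] lk pkF allF compK oneK validK testK tX tXi tY tYi tZ baseB chainH chainC

theorem range_H_card : 177408000 ≤ Nat.card N0 := by
  obtain ⟨-, hH, -⟩ := OutCert.HS.H_spec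
  obtain ⟨-, h0⟩ := card_N0
  have : Finite N0 := Nat.finite_of_card_ne_zero h0
  let f : HNDouble.K →* HNDouble.P := act.comp HNDouble.K.subtype
  have hsub : OutCert.HS.H ≤ f.range := by
    intro s hs
    obtain ⟨n, rfl⟩ := H_le_range hs
    exact ⟨⟨n, MonoidHom.mem_ker.2 (MonoidHom.mem_ker.1 (OutCert.HS.H_le_sign hs))⟩, rfl⟩
  have hd : nX ^ 2 ∈ HNDouble.K := by
    rw [HNDouble.K, MonoidHom.mem_ker, MonoidHom.comp_apply, act_sq, map_one]
  have hk : 2 ≤ Nat.card f.ker := by
    have hle : Subgroup.zpowers (⟨nX ^ 2, hd⟩ : HNDouble.K) ≤ f.ker := Subgroup.zpowers_le.2 act_sq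
    refine le_trans ?_ (Subgroup.card_le_of_le hle)
    rw [Nat.card_zpowers, ← orderOf_injective HNDouble.K.subtype HNDouble.K.subtype_injective]
    exact sq_facts.2.ge
  have hr : 44352000 ≤ Nat.card f.range := hH ▸ Subgroup.card_le_of_le hsub
  have h1 := f.ker.card_mul_index
  rw [Subgroup.index_ker] at h1
  have h2 := HNDouble.K.card_mul_index
  rw [K_index] at h2
  have := Nat.mul_le_mul hk hr
  omega

theorem card_N0_eq : Nat.card N0 = 177408000 := le_antisymm card_N0.1 range_H_card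

instance finite_N0 : Finite N0 := Nat.finite_of_card_ne_zero card_N0.2

/-- The relations of `x, y, z`. -/
abbrev Rels10 {G : Type*} [Group G] (x y z : G) : Prop :=
  y ^ 6 = 1 ∧ x ^ 2 * y * x ^ 2 * y⁻¹ = 1 ∧ (x⁻¹ * y⁻¹ * x * y) ^ 3 = 1 ∧
  (x⁻¹ * y ^ 2 * x * y ^ 3) ^ 3 = 1 ∧ (x * y) ^ 8 = 1 ∧ (x * y * x * y ^ 3) ^ 4 = 1 ∧
  z ^ 2 = 1 ∧ (z * x) ^ 2 = 1 ∧
  z⁻¹ * (y * x * y * x * y ^ 2 * x * y⁻¹)⁻¹ * z * (y * x * y * x * y ^ 2 * x * y⁻¹) * (x ^ 2)⁻¹ = 1 ∧
  z * ((y ^ 3 * x * y * x * y)⁻¹ * z * (y ^ 3 * x * y * x * y) * x) ^ 3 = 1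

theorem card_bound {G : Type*} [Group G] {x y z : G} (h : Rels10 x y z) (f : G →* HNDouble.P)
    (fx : f x = sX) (fy : f y = sY) (htop : Subgroup.closure {x, y, z} = ⊤) :
    Nat.card G ≤ 177408000 ∧ Nat.card G ≠ 0 := by
  obtain ⟨h1, h2, h3, h4, h5, h6, h7, h8, h9, h10⟩ := h
  obtain ⟨hdd, cx, cy, cz⟩ := sq_central x y z h2 h4 h7 h8
  obtain ⟨d, hd⟩ : ∃ d, d = x ^ 2 := ⟨_, rfl⟩
  have hcen : Subgroup.zpowers d ≤ Subgroup.center G := by
    rw [Subgroup.zpowers_le, Subgroup.mem_center_iff]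
    intro g
    have hle : Subgroup.closure {x, y, z} ≤ Subgroup.centralizer {d} := by
      rw [Subgroup.closure_le]
      rintro _ (rfl | rfl | rfl) <;> subst hd <;> apply Subgroup.mem_centralizer_singleton_iff.2
      · exact cx.symm.eq
      · exact cy.symm.eq
      · exact cz.symm.eq
    rw [htop] at hle
    exact Subgroup.mem_centralizer_singleton_iff.1 (hle (Subgroup.mem_top g))
  have hn : (Subgroup.zpowers d).Normal :=
    ⟨fun n hn g => by rwa [Subgroup.mem_center_iff.1 (hcen hn) g, mul_inv_cancel_right]⟩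
  have hker : Subgroup.zpowers d ≤ f.ker := by
    rw [Subgroup.zpowers_le, MonoidHom.mem_ker, hd, map_pow, fx, pow_two]
    nth_rewrite 1 [← sX_inv]
    exact inv_mul_cancel sX
  obtain ⟨q, hq⟩ : ∃ q, q = QuotientGroup.mk' (Subgroup.zpowers d) := ⟨_, rfl⟩
  have hx : q (x ^ 2) = 1 := by
    rw [hq, ← hd]
    exact (QuotientGroup.eq_one_iff _).2 (Subgroup.mem_zpowers _)
  obtain ⟨hR, hZ, hzx, hzw, hU⟩ := image_rels q x y z h1 h3 h4 h5 h6 h7 h8 h9 h10 hx
  have htop' : Subgroup.closure {q x, q y, q z} = ⊤ := by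
    have e := congrArg (Subgroup.map q) htop
    rwa [MonoidHom.map_closure, Set.image_insert_eq, Set.image_pair,
      Subgroup.map_top_of_surjective q (hq ▸ QuotientGroup.mk'_surjective _)] at e
  subst hq
  obtain ⟨hb, hb0⟩ := card_le hR (QuotientGroup.lift _ f hker) fx fy hZ hzx hzw hU htop'
  have hd2 : Nat.card (Subgroup.zpowers d) ≤ 2 :=
    (card_zpowers_le (n := 2) (by norm_num) (by rw [pow_two, hd]; exact hdd)).1
  have hd0 : Nat.card (Subgroup.zpowers d) ≠ 0 :=
    (card_zpowers_le (n := 2) (by norm_num) (by rw [pow_two, hd]; exact hdd)).2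
  rw [Subgroup.card_eq_card_quotient_mul_card_subgroup (Subgroup.zpowers d)]
  exact ⟨(Nat.mul_le_mul hb hd2).trans (by norm_num), Nat.mul_ne_zero hb0 hd0⟩

/-- Permutations of 1408 points. -/
abbrev Q : Type := Equiv.Perm (Fin 1408)

/-- The image of `x`. -/
noncomputable def pX : Q := permOf tX tXi keys_ok.1

/-- The image of `y`. -/
noncomputable def pY : Q := permOf tY tYi keys_ok.2.1

/-- The image of `z`. -/
noncomputable def pZ : Q := permOf tZ tZ keys_ok.2.2

theorem rep_gens : Rep 11 1408 tX pX ∧ Rep 11 1408 tXi pX⁻¹ ∧ Rep 11 1408 tY pY ∧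
    Rep 11 1408 tYi pY⁻¹ ∧ Rep 11 1408 tZ pZ ∧ Rep 11 1408 tZ pZ⁻¹ :=
  ⟨rep_permOf _, rep_permOf_inv _, rep_permOf _, rep_permOf_inv _, rep_permOf _, rep_permOf_inv _⟩

theorem rels_perm : Rels10 pX pY pZ := by
  obtain ⟨a, ai, b, bi, c, ci⟩ := rep_gens
  obtain ⟨r1, r2, r3, r4, r5⟩ := rels_ok
  obtain ⟨r6, r7, r8, r9, r10⟩ := rels_ok'
  have t : ∀ {l : List ℕ} {L : List Q} {m : ℕ}, List.Forall₂ (Rep 11 1408) l L →
      testK 11 1408 l m = true → L.prod ^ m = 1 := fun h e => (test_iff h _).1 e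
  refine ⟨?_, ?_, ?_, ?_, ?_, ?_, ?_, ?_, ?_, ?_⟩
  · simpa using t (L := [pY]) (.cons b .nil) r1
  · simpa [pow_succ, mul_assoc] using t (L := [pX, pX, pY, pX, pX, pY⁻¹])
      (.cons a (.cons a (.cons b (.cons a (.cons a (.cons bi .nil)))))) r2
  · simpa [mul_assoc] using t (L := [pX⁻¹, pY⁻¹, pX, pY]) (.cons ai (.cons bi (.cons a (.cons b .nil)))) r3
  · have := t (L := [pX⁻¹, pY, pY, pX, pY, pY, pY])
      (.cons ai (.cons b (.cons b (.cons a (.cons b (.cons b (.cons b .nil))))))) r4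
    rw [show pY ^ 2 = pY * pY from pow_two pY, show pY ^ 3 = pY * (pY * pY) by rw [pow_succ', pow_two]]
    simpa [mul_assoc] using this
  · simpa [mul_assoc] using t (L := [pX, pY]) (.cons a (.cons b .nil)) r5
  · have := t (L := [pX, pY, pX, pY, pY, pY])
      (.cons a (.cons b (.cons a (.cons b (.cons b (.cons b .nil)))))) r6
    rw [show pY ^ 3 = pY * (pY * pY) by rw [pow_succ', pow_two]]
    simpa [mul_assoc] using this
  · simpa using t (L := [pZ]) (.cons c .nil) r7
  · simpa [mul_assoc] using t (L := [pZ, pX]) (.cons c (.cons a .nil)) r8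
  · have hz : pZ⁻¹ = pZ := ci.inj c
    have := t (L := [pZ, pY, pX⁻¹, pY⁻¹, pY⁻¹, pX⁻¹, pY⁻¹, pX⁻¹, pY⁻¹, pZ, pY, pX, pY, pX, pY, pY,
      pX, pY⁻¹, pX⁻¹, pX⁻¹]) (.cons c (.cons b (.cons ai (.cons bi (.cons bi (.cons ai (.cons bi
        (.cons ai (.cons bi (.cons c (.cons b (.cons a (.cons b (.cons a (.cons b (.cons b (.cons a
        (.cons bi (.cons ai (.cons ai .nil)))))))))))))))))))) r9
    rw [pow_one] at this
    simpa [hz, pow_two, mul_inv_rev, mul_assoc] using this
  · have := t (L := [pZ] ++ (List.replicate 3 [pY⁻¹, pX⁻¹, pY⁻¹, pX⁻¹, pY⁻¹, pY⁻¹, pY⁻¹, pZ, pY, pY,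
      pY, pX, pY, pX, pY, pX]).flatten) (m := 1) (by
        simp only [List.replicate_succ, List.replicate_zero, List.flatten_cons, List.flatten_nil,
          List.cons_append, List.nil_append, List.forall₂_cons, List.forall₂_nil_right_iff,
          and_true, a, ai, b, bi, c, List.append_nil]) r10
    rw [pow_one] at this
    simpa [pow_succ, mul_inv_rev, mul_assoc, List.replicate_succ] using this

theorem exists_phi : ∃ φ : N0 →* Q, φ nX = pX ∧ φ nY = pY ∧ φ nZ = pZ := by
  let gx : N0 × Q := (nX, pX)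
  let gy : N0 × Q := (nY, pY)
  let gz : N0 × Q := (nZ, pZ)
  let Γ : Subgroup (N0 × Q) := Subgroup.closure {gx, gy, gz}
  let ex : Γ := ⟨gx, Subgroup.subset_closure (by simp)⟩
  let ey : Γ := ⟨gy, Subgroup.subset_closure (by simp)⟩
  let ez : Γ := ⟨gz, Subgroup.subset_closure (by simp)⟩
  have hN : Rels10 nX nY nZ := by
    obtain ⟨a1, a2, a3, a4, a5, a6, a7, a8, a9, a10⟩ := hn_rels
    exact ⟨Subtype.ext a1, Subtype.ext a2, Subtype.ext a3, Subtype.ext a4, Subtype.ext a5,
      Subtype.ext a6, Subtype.ext a7, Subtype.ext a8, Subtype.ext a9, Subtype.ext a10⟩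
  have hE : Rels10 ex ey ez := by
    obtain ⟨a1, a2, a3, a4, a5, a6, a7, a8, a9, a10⟩ := hN
    obtain ⟨b1, b2, b3, b4, b5, b6, b7, b8, b9, b10⟩ := rels_perm
    exact ⟨Subtype.ext (Prod.ext a1 b1), Subtype.ext (Prod.ext a2 b2), Subtype.ext (Prod.ext a3 b3),
      Subtype.ext (Prod.ext a4 b4), Subtype.ext (Prod.ext a5 b5), Subtype.ext (Prod.ext a6 b6),
      Subtype.ext (Prod.ext a7 b7), Subtype.ext (Prod.ext a8 b8), Subtype.ext (Prod.ext a9 b9),
      Subtype.ext (Prod.ext a10 b10)⟩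
  let p : Γ →* N0 := (MonoidHom.fst N0 Q).comp Γ.subtype
  have htop : Subgroup.closure {ex, ey, ez} = (⊤ : Subgroup Γ) := by
    apply Subgroup.map_injective Γ.subtype_injective
    rw [MonoidHom.map_closure, ← MonoidHom.range_eq_map, Subgroup.range_subtype, Set.image_insert_eq,
      Set.image_pair]
    rfl
  obtain ⟨hle, hne⟩ := card_bound hE (act.comp p) act_gens.1 act_gens.2.1 htop
  have : Finite Γ := Nat.finite_of_card_ne_zero hne
  have hsurj : Function.Surjective p := by
    rw [← MonoidHom.range_eq_top, MonoidHom.range_eq_map, ← htop, MonoidHom.map_closure,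
      Set.image_insert_eq, Set.image_pair]
    exact closure_n
  have hbij : Function.Bijective p := (Nat.bijective_iff_surjective_and_card p).2
    ⟨hsurj, le_antisymm (card_N0_eq ▸ hle) (Nat.card_le_card_of_surjective p hsurj)⟩
  let e : Γ ≃* N0 := MulEquiv.ofBijective p hbij
  refine ⟨((MonoidHom.snd N0 Q).comp Γ.subtype).comp e.symm.toMonoidHom, ?_, ?_, ?_⟩
  · show ((e.symm (e ex)) : N0 × Q).2 = pX
    rw [e.symm_apply_apply]
  · show ((e.symm (e ey)) : N0 × Q).2 = pY
    rw [e.symm_apply_apply]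
  · show ((e.symm (e ez)) : N0 × Q).2 = pZ
    rw [e.symm_apply_apply]

/-- The action on 1408 points. -/
noncomputable def phi : N0 →* Q := exists_phi.choose

theorem phi_gens : phi nX = pX ∧ phi nY = pY ∧ phi nZ = pZ := exists_phi.choose_spec

/-- The element of a letter. -/
noncomputable def nL (c : ℕ) : N0 := [nX, nX⁻¹, nY, nY⁻¹, nZ].getD c 1

/-- The element of a word. -/
noncomputable def ev (L : List ℕ) : N0 := (L.map nL).prod

theorem ev_nil : ev [] = 1 := rfl

theorem ev_cons (c : ℕ) (L : List ℕ) : ev (c :: L) = nL c * ev L := by simp [ev]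

theorem ev_append (u v : List ℕ) : ev (u ++ v) = ev u * ev v := by simp [ev]

theorem rep_nL (c : ℕ) : Rep 11 1408 (keyL c) (phi (nL c)) := by
  obtain ⟨hx, hy, hz⟩ := phi_gens
  obtain ⟨a, ai, b, bi, z, -⟩ := rep_gens
  unfold keyL nL
  match c with
  | 0 => simpa [hx] using a
  | 1 => simpa [hx] using ai
  | 2 => simpa [hy] using b
  | 3 => simpa [hy] using bi
  | 4 => simpa [hz] using z
  | k + 5 => simpa using rep_one (w := 11) (N := 1408) (by norm_num)

theorem run_eq (L : List ℕ) (i : Fin 1408) : run L i = ((phi (ev L) i : Fin 1408) : ℕ) := by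
  induction L with
  | nil => rw [ev_nil, map_one]; rfl
  | cons c t ih =>
    show lk 11 (keyL c) (run t i) = _
    rw [ih, rep_nL c, ev_cons, map_mul, Equiv.Perm.mul_apply]

theorem run_lt (L : List ℕ) (i : Fin 1408) : run L i < 1408 := run_eq L i ▸ (phi (ev L) i).2

/-- The elements fixing the listed points. -/
def fixes (l : List ℕ) : Subgroup N0 where
  carrier := {g | ∀ i : Fin 1408, (i : ℕ) ∈ l → phi g i = i}
  one_mem' := fun i _ => by rw [map_one]; rfl
  mul_mem' := fun {a b} ha hb i hi => by rw [map_mul, Equiv.Perm.mul_apply, hb i hi, ha i hi]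
  inv_mem' := fun {a} ha i hi => by
    rw [map_inv, Equiv.Perm.inv_eq_iff_eq, ha i hi]

theorem mem_fixes {l : List ℕ} {g : N0} :
    g ∈ fixes l ↔ ∀ i : Fin 1408, (i : ℕ) ∈ l → phi g i = i := Iff.rfl

theorem fixes_nil : fixes [] = ⊤ := eq_top_iff.2 fun g _ i hi => absurd hi (List.not_mem_nil)

theorem orbW_spec {K : Subgroup N0} {gens : List (List ℕ)} (hg : ∀ g ∈ gens, ev g ∈ K)
    {R : Fin 1408 → Prop} (hR : ∀ k ∈ K, ∀ i, R i → R (phi k i)) :
    ∀ {l : List (ℕ × ℕ × ℕ)} {m m' : ℕ}, orbW gens l m = some m' →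
      (∀ i : Fin 1408, m.testBit i = true → R i) →
      (∀ i : Fin 1408, m'.testBit i = true → R i) ∧ (l.map Prod.fst).Nodup ∧
      ∀ e ∈ l, m.testBit e.1 = false ∧ ∃ i : Fin 1408, R i ∧ (i : ℕ) = e.1
  | [], m, m', h, hm => by
    simp only [orbW, Option.some.injEq] at h
    subst h
    exact ⟨hm, List.nodup_nil, fun e he => absurd he (List.not_mem_nil)⟩
  | (p, q, k) :: l, m, m', h, hm => by
    simp only [orbW] at h
    rcases hc : (Nat.blt k gens.length && (Nat.testBit m q && (!(Nat.testBit m p) &&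
      (Nat.blt q 1408 && (Nat.blt p 1408 && Nat.beq (run (gens.getD k []) q) p)))))
    · rw [hc] at h; simp at h
    rw [hc] at h
    simp only [cond_true] at h
    simp only [Bool.and_eq_true, Bool.not_eq_true', Nat.blt_eq, Nat.beq_eq] at hc
    obtain ⟨hk, hq, hp, hqN, hpN, himg⟩ := hc
    have hRp : R ⟨p, hpN⟩ := by
      rw [List.getD_eq_getElem _ _ hk] at himg
      have := hR _ (hg _ (List.getElem_mem hk)) _ (hm ⟨q, hqN⟩ hq)
      rwa [show phi (ev gens[k]) ⟨q, hqN⟩ = ⟨p, hpN⟩ from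
        Fin.ext ((run_eq _ ⟨q, hqN⟩).symm.trans himg)] at this
    have hm' : ∀ i : Fin 1408, (m ||| 2 ^ p).testBit i = true → R i := by
      intro i hi
      rw [Nat.testBit_lor, Bool.or_eq_true, Nat.testBit_two_pow, decide_eq_true_eq] at hi
      rcases hi with hi | hi
      · exact hm i hi
      · rwa [show i = ⟨p, hpN⟩ from Fin.ext hi.symm]
    obtain ⟨h1, h2, h3⟩ := orbW_spec hg hR h hm'
    refine ⟨h1, List.nodup_cons.2 ⟨fun he => ?_, h2⟩, ?_⟩
    · obtain ⟨f, hf, hfe⟩ := List.mem_map.1 he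
      have := (h3 f hf).1
      rw [hfe, Nat.testBit_lor, Nat.testBit_two_pow_self, Bool.or_true] at this
      exact Bool.noConfusion this
    · intro f hf
      rcases List.mem_cons.1 hf with rfl | hf
      · exact ⟨hp, _, hRp, rfl⟩
      · refine ⟨?_, (h3 f hf).2⟩
        have := (h3 f hf).1
        rw [Nat.testBit_lor, Bool.or_eq_false_iff] at this
        exact this.1

theorem levW_card : ∀ (lv : List Lev) (K : Subgroup N0), levW lv = true →
    (∀ L ∈ lv, ∀ g ∈ L.2.1, ev g ∈ K) →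
    (lv.map fun L => L.2.2.length + 1).prod * Nat.card ↥(K ⊓ fixes (lv.map fun L => L.1)) ≤ Nat.card K
  | [], K, _, _ => by simp [fixes_nil]
  | (b, gens, orb) :: r, K, h, hg => by
    classical
    simp only [levW, Bool.and_eq_true, Nat.blt_eq, List.all_eq_true, Nat.beq_eq] at h
    obtain ⟨hb, ho, hfix, hr⟩ := h
    obtain ⟨m', hm'⟩ := Option.isSome_iff_exists.1 ho
    let _ : MulAction K (Fin 1408) := MulAction.compHom _ (phi.comp K.subtype)
    let B : Fin 1408 := ⟨b, hb⟩
    obtain ⟨-, hnd, hmem⟩ := orbW_spec (K := K) (hg _ List.mem_cons_self)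
      (R := fun i => i ∈ MulAction.orbit K B)
      (fun k hk i hi => MulAction.mem_orbit_of_mem_orbit (⟨k, hk⟩ : K) hi) hm' (fun i hi => by
        rw [Nat.testBit_two_pow, decide_eq_true_eq] at hi
        rw [show i = B from Fin.ext hi.symm]
        exact MulAction.mem_orbit_self B)
    have hnd' : (b :: orb.map Prod.fst).Nodup := List.nodup_cons.2 ⟨fun he => by
      obtain ⟨e, he', hee⟩ := List.mem_map.1 he
      have := (hmem e he').1
      rw [hee, Nat.testBit_two_pow_self] at this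
      exact Bool.noConfusion this, hnd⟩
    have hlen : orb.length + 1 ≤ (MulAction.orbit K B).ncard := by
      have hsub : ((b :: orb.map Prod.fst).toFinset : Set ℕ) ⊆ Fin.val '' MulAction.orbit K B := by
        intro v hv
        rw [Finset.mem_coe, List.mem_toFinset, List.mem_cons, List.mem_map] at hv
        rcases hv with rfl | ⟨e, he, rfl⟩
        · exact ⟨B, MulAction.mem_orbit_self B, rfl⟩
        · obtain ⟨i, hi, hie⟩ := (hmem e he).2
          exact ⟨i, hi, hie⟩
      have := Set.ncard_le_ncard hsub (Set.toFinite _)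
      rwa [Set.ncard_coe_finset, List.toFinset_card_of_nodup hnd', List.length_cons, List.length_map,
        Set.ncard_image_of_injective _ Fin.val_injective] at this
    let K' : Subgroup N0 := K ⊓ fixes [b]
    have hK' : Nat.card K' = Nat.card (MulAction.stabilizer K B) :=
      Nat.card_congr
        { toFun := fun g => ⟨⟨g.1, g.2.1⟩, g.2.2 B (by simp [B])⟩
          invFun := fun g => ⟨g.1.1, g.1.2, fun i hi => by
            rw [show i = B from Fin.ext (by simpa using hi)]
            exact g.2⟩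
          left_inv := fun _ => rfl
          right_inv := fun _ => rfl }
    have ih := levW_card r K' hr fun M hM g hgM =>
      ⟨hg M (List.mem_cons_of_mem _ hM) g hgM, fun i hi => by
        rw [show i = B from Fin.ext (by simpa using hi)]
        exact Fin.ext ((run_eq g B).symm.trans (hfix M hM g hgM))⟩
    have hKK : K' ⊓ fixes (r.map fun L => L.1) = K ⊓ fixes (b :: r.map fun L => L.1) := by
      ext g
      simp only [K', Subgroup.mem_inf, mem_fixes, List.mem_cons, List.not_mem_nil, or_false]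
      exact ⟨fun h => ⟨h.1.1, fun i hi => hi.elim (h.1.2 i) (h.2 i)⟩,
        fun h => ⟨⟨h.1, fun i hi => h.2 i (Or.inl hi)⟩, fun i hi => h.2 i (Or.inr hi)⟩⟩
    rw [hKK, hK'] at ih
    have hmul := (MulAction.stabilizer K B).index_mul_card
    rw [MulAction.index_stabilizer] at hmul
    rw [List.map_cons, List.map_cons, List.prod_cons, mul_assoc, ← hmul]
    exact Nat.mul_le_mul hlen ih

theorem fixes_base : fixes baseB = ⊥ := by
  have h := levW_card levH ⊤ levH_ok.1 (fun _ _ _ _ => Subgroup.mem_top _)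
  rw [levH_ok.2.1, levH_ok.2.2, top_inf_eq, Subgroup.card_top, card_N0_eq] at h
  have : 0 < Nat.card (fixes baseB) := Nat.card_pos
  exact Subgroup.eq_bot_of_card_le _ (by omega)

theorem ev_eq_of_eqW {u v : List ℕ} (h : eqW u v = true) : ev u = ev v := by
  simp only [eqW, List.all_eq_true, Nat.beq_eq] at h
  have hm : (ev v)⁻¹ * ev u ∈ fixes baseB := by
    intro i hi
    have e := h i hi
    rw [run_eq, run_eq] at e
    rw [map_mul, map_inv, Equiv.Perm.mul_apply, Equiv.Perm.inv_eq_iff_eq]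
    exact Fin.ext e
  rw [fixes_base, Subgroup.mem_bot, inv_mul_eq_one] at hm
  exact hm.symm

/-- The image of `t`. -/
noncomputable def gT : HN := PresentedGroup.of HN.Gen.t

theorem t_rels : gT ^ 5 = 1 ∧ gX⁻¹ * gT * gX * gT ^ 2 = 1 ∧ gT⁻¹ * gY⁻¹ * gT * gY = 1 ∧
    (gZ * gT) ^ 3 = 1 := by
  have h : ∀ r ∈ HN.extra, PresentedGroup.mk (coxRelators HN.edges ∪ {r | r ∈ HN.extra}) r = 1 :=
    fun r hr => PresentedGroup.one_of_mem (Or.inr hr)
  simp only [HN.extra, List.forall_mem_cons, map_mul, map_pow, map_inv] at h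
  obtain ⟨-, -, -, -, -, -, -, -, -, -, h1, h2, h3, h4, -⟩ := h
  exact ⟨h1, h2, h3, h4⟩

theorem gT_rev : gT⁻¹ = gX ^ 2 * gT * gX ^ 2 := by
  obtain ⟨h5, hx, -, -⟩ := t_rels
  have h1 : gX⁻¹ * gT * gX = (gT ^ 2)⁻¹ := eq_inv_of_mul_eq_one_left hx
  have h4 : gX⁻¹ * (gX⁻¹ * gT * gX) * gX = gT ^ 4 := by
    calc gX⁻¹ * (gX⁻¹ * gT * gX) * gX = gX⁻¹ * (gT ^ 2)⁻¹ * gX := by rw [h1]
      _ = ((gX⁻¹ * gT * gX) ^ 2)⁻¹ := by simp only [pow_two]; group
      _ = gT ^ 4 := by rw [h1]; group
  have e : gT ^ 4 = gT⁻¹ := eq_inv_of_mul_eq_one_left (by rw [← pow_succ]; exact h5)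
  have hx4 : gX ^ 2 * gX ^ 2 = 1 := by
    have h := pow_orderOf_eq_one (nX ^ 2)
    rw [sq_facts.2, pow_two (nX ^ 2)] at h
    exact congrArg Subtype.val h
  rw [← e, ← h4]
  calc gX⁻¹ * (gX⁻¹ * gT * gX) * gX = (gX ^ 2)⁻¹ * gT * gX ^ 2 := by simp only [pow_two]; group
    _ = gX ^ 2 * gT * gX ^ 2 := by rw [inv_eq_of_mul_eq_one_right hx4]

/-- The subgroup of the elements commuting with `t`. -/
noncomputable def commT : Subgroup N0 := (Subgroup.centralizer {gT}).subgroupOf N0

theorem ev_expandC (L : List ℕ) :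
    ev (expandC L) = (L.map fun k => ev (centGens.getD k [])).prod := by
  induction L with
  | nil => rfl
  | cons k t ih =>
    show ev (centGens.getD k [] ++ expandC t) = _
    rw [ev_append, ih, List.map_cons, List.prod_cons]

theorem centGens_mem : ∀ g ∈ centGens, ev g ∈ fixes [0] ⊓ commT := by
  intro g hg
  refine ⟨fun i hi => ?_, ?_⟩
  · have h := levC_ok.2.2
    simp only [List.all_eq_true, Nat.beq_eq] at h
    have h' := h g hg
    rw [List.mem_singleton] at hi
    refine Fin.ext ?_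
    rw [← run_eq, hi]
    exact h'
  · show ((ev g : N0) : HN) ∈ Subgroup.centralizer {gT}
    obtain ⟨h5, hx, hy, -⟩ := t_rels
    have cy : gY ∈ Subgroup.centralizer {gT} := by
      rw [Subgroup.mem_centralizer_singleton_iff]
      calc gY * gT = gY * gT * (gT⁻¹ * gY⁻¹ * gT * gY) := by rw [hy, mul_one]
        _ = gT * gY := by group
    have cw : gX⁻¹ * gY * gX ∈ Subgroup.centralizer {gT} := by
      have h1 : gX⁻¹ * gT * gX = (gT ^ 2)⁻¹ := eq_inv_of_mul_eq_one_left hx
      have hc : Commute (gX⁻¹ * gY * gX) (gX⁻¹ * gT * gX) := by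
        show gX⁻¹ * gY * gX * (gX⁻¹ * gT * gX) = gX⁻¹ * gT * gX * (gX⁻¹ * gY * gX)
        calc gX⁻¹ * gY * gX * (gX⁻¹ * gT * gX) = gX⁻¹ * (gY * gT) * gX := by group
          _ = gX⁻¹ * (gT * gY) * gX := by rw [Subgroup.mem_centralizer_singleton_iff.1 cy]
          _ = gX⁻¹ * gT * gX * (gX⁻¹ * gY * gX) := by group
      rw [h1] at hc
      have e : ((gT ^ 2)⁻¹) ^ 2 = gT := by
        calc ((gT ^ 2)⁻¹) ^ 2 = ((gT ^ 2)⁻¹) ^ 2 * gT ^ 5 := by rw [h5, mul_one]
          _ = gT := by group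
      have := hc.pow_right 2
      rw [e] at this
      exact Subgroup.mem_centralizer_singleton_iff.2 this.eq
    simp only [centGens, List.mem_cons, List.not_mem_nil, or_false] at hg
    rcases hg with rfl | rfl | rfl | rfl
    · simpa [ev, nL, nY] using cy
    · simpa [ev, nL, nX, nY, mul_assoc] using cw
    · simpa [ev, nL, nY] using inv_mem cy
    · have := inv_mem cw
      simpa [ev, nL, nX, nY, mul_assoc, mul_inv_rev] using this

theorem fixes_le_commT : fixes [0] ≤ commT := by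
  have h1 : 1408 * Nat.card (fixes [0]) ≤ 177408000 := by
    have hh := levH_ok.1
    obtain ⟨⟨b, gens, orb⟩, r, hl⟩ : ∃ L r, levH = L :: r := by
      rcases hl : levH with _ | ⟨L, r⟩
      · have h := levH_first
        rw [hl] at h
        simp at h
      · exact ⟨L, r, rfl⟩
    rw [hl] at hh
    simp only [levW, Bool.and_eq_true] at hh
    have h := levW_card [(b, gens, orb)] ⊤ (by simp [levW, hh.1, hh.2.1]) (fun _ _ _ _ => Subgroup.mem_top _)
    simp only [List.map_cons, List.map_nil, List.prod_cons, List.prod_nil, mul_one, top_inf_eq,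
      Subgroup.card_top, card_N0_eq] at h
    have hbo := levH_first
    rw [hl] at hbo
    simp only [List.map_cons, List.take_succ_cons, List.take_zero, List.cons.injEq, Prod.mk.injEq,
      and_true] at hbo
    rw [hbo.1] at h
    rwa [show orb.length + 1 = 1408 from hbo.2] at h
  let Cc : Subgroup N0 := Subgroup.closure {g | ∃ w ∈ centGens, ev w = g}
  have hC : Cc ≤ fixes [0] ⊓ commT := by
    rw [Subgroup.closure_le]
    rintro _ ⟨w, hw, rfl⟩
    exact centGens_mem w hw
  have h2 : 126000 ≤ Nat.card Cc := by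
    have h := levW_card levC Cc levC_ok.1 fun L hL g hg => by
      simp only [levC, List.mem_map] at hL
      obtain ⟨t, -, rfl⟩ := hL
      simp only [List.mem_map] at hg
      obtain ⟨w, -, rfl⟩ := hg
      rw [ev_expandC]
      refine Subgroup.list_prod_mem _ fun a ha => ?_
      simp only [List.mem_map] at ha
      obtain ⟨k, -, rfl⟩ := ha
      rcases lt_or_ge k centGens.length with hk | hk
      · rw [List.getD_eq_getElem _ _ hk]
        exact Subgroup.subset_closure ⟨_, List.getElem_mem hk, rfl⟩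
      · rw [List.getD_eq_default _ _ hk]
        exact one_mem _
    rw [levC_ok.2.1] at h
    refine le_trans ?_ h
    exact Nat.le_mul_of_pos_right _ Nat.card_pos
  have e : Cc = fixes [0] := Subgroup.eq_of_le_of_card_ge (le_trans hC inf_le_left) (by omega)
  exact e ▸ le_trans hC inf_le_right

theorem commute_of_fix {g : N0} (h : ((phi g 0 : Fin 1408) : ℕ) = 0) : Commute (g : HN) gT := by
  have hm : g ∈ fixes [0] := fun i hi => by
    rw [List.mem_singleton] at hi
    rw [show i = 0 from Fin.ext hi]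
    exact Fin.ext h
  exact Subgroup.mem_centralizer_singleton_iff.1 (fixes_le_commT hm)

theorem commute_of_run {c : List ℕ} (h : run c 0 = 0) : Commute (ev c : HN) gT :=
  commute_of_fix ((run_eq c 0).symm.trans h)

end CfsgLib.Sporadic.CosetCert.HNIndex
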