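import Cfsg.Agent.Lib.Sporadic.HNIndex.Checks
import Cfsg.Agent.Lib.Sporadic.HNIndex.StepData
import Cfsg.Agent.Lib.Sporadic.HNIndex.NodeData

/-!
# Kernel checks of the derivation for the double cosets

A step states `N₀ g i a = N₀ g j b` (kind 0) or `N₀ g i a t = N₀ g j b` (kind 1).
-/

set_option autoImplicit false
set_option maxRecDepth 100000

namespace CfsgLib.Sporadic.CosetCert.HNIndex

/-- A decoded step: rule, kind, two nodes, two earlier steps plus one, three words. -/
structure DStep where
  /-- rule -/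
  r : ℕ
  /-- kind -/
  T : ℕ
  /-- first node -/
  i : ℕ
  /-- second node -/
  j : ℕ
  /-- an earlier step, plus one -/
  p : ℕ
  /-- an earlier step, plus one -/
  q : ℕ
  /-- first word -/
  a : List ℕ
  /-- second word -/
  b : List ℕ
  /-- auxiliary word -/
  c : List ℕ

/-- The step with a number. -/
noncomputable def stepAt (k : ℕ) : DStep :=
  match (steps.getD (k / 64) []).getD (k % 64) (99, 0, 0, 0, 0, 0, 0, 0, 0) with
  | (r, T, i, j, p, q, a, b, c) => ⟨r, T, i, j, p, q, dw a, dw b, dw c⟩

/-- The packed path to a node. -/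
noncomputable def pathP (i : ℕ) : List ℕ := paths.getD i []

/-- Two earlier steps of given kinds. -/
def kinds (P Q : DStep) (u v : ℕ) : Bool := Nat.beq P.T u && Nat.beq Q.T v

/-- A new node. -/
noncomputable def rDef (k : ℕ) (S : DStep) : Bool :=
  Nat.beq S.T 1 && S.b.isEmpty &&
    (pathP S.j == pathP S.i ++ [((steps.getD (k / 64) []).getD (k % 64) (99, 0, 0, 0, 0, 0, 0, 0, 0)).2.2.2.2.2.2.1])

/-- A step moved along the stabiliser of the point. -/
noncomputable def rMove (S P : DStep) : Bool :=
  Nat.beq S.T P.T && Nat.beq S.i P.i && Nat.beq S.j P.j && eqW S.a (P.a ++ S.c) &&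
    eqW S.b (P.b ++ S.c) && (Nat.beq S.T 0 || Nat.beq (run S.c 0) 0)

/-- An edge moved by an element fixing the node. -/
noncomputable def rLeft (S P Q : DStep) (none : Bool) : Bool :=
  Nat.beq S.T 1 && Nat.beq P.T 1 && Nat.beq S.i P.i && Nat.beq S.j P.j && Nat.beq (run S.c 0) 0 &&
    eqW S.b (P.b ++ S.c) &&
    (bif none then eqW S.a (P.a ++ S.c)
    else Nat.beq Q.T 0 && Nat.beq Q.i S.i && Nat.beq Q.j S.i && eqW Q.b [] &&
      (eqW (Q.a ++ S.a) (P.a ++ S.c) || eqW S.a (Q.a ++ (P.a ++ S.c))))

/-- An edge reversed. -/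
noncomputable def rRev (S P : DStep) : Bool :=
  Nat.beq S.T 1 && Nat.beq P.T 1 && Nat.beq S.i P.j && Nat.beq S.j P.i && eqW S.a (P.b ++ [0, 0]) &&
    eqW S.b (P.a ++ [0, 0])

/-- Two edges with the same source. -/
noncomputable def rFunc (S P Q : DStep) : Bool :=
  Nat.beq S.T 0 && kinds P Q 1 1 && Nat.beq P.i Q.i && eqW P.a Q.a && Nat.beq S.i P.j &&
    Nat.beq S.j Q.j && eqW S.a P.b && eqW S.b Q.b

/-- Two consecutive edges of a relator give a third. -/
noncomputable def rRel (S P Q : DStep) (mid sa sb : List ℕ) (tb : Bool) : Bool :=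
  Nat.beq S.T 1 && kinds P Q 1 1 && Nat.beq Q.i P.j && eqW Q.a (P.b ++ mid) && Nat.beq S.i Q.j &&
    Nat.beq S.j P.i && eqW S.a (Q.b ++ sa) &&
    (bif tb then eqW (S.b ++ sb) P.a else eqW S.b (P.a ++ sb))

/-- A product of two elements fixing the node. -/
noncomputable def rMul (S P Q : DStep) : Bool :=
  Nat.beq S.T 0 && kinds P Q 0 0 && Nat.beq S.j S.i && Nat.beq P.i S.i && Nat.beq P.j S.i &&
    Nat.beq Q.i S.i && Nat.beq Q.j S.i && eqW P.b [] && eqW Q.b [] && eqW S.b [] &&
    eqW S.a (P.a ++ Q.a)

/-- An inverse of an element fixing the node. -/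
noncomputable def rInv (S P : DStep) : Bool :=
  Nat.beq S.T 0 && Nat.beq P.T 0 && Nat.beq S.j S.i && Nat.beq P.i S.i && Nat.beq P.j S.i &&
    eqW P.b [] && eqW S.b [] && eqW (S.a ++ P.a) []

/-- The step `S` follows from `P` and `Q`. -/
noncomputable def ruleOK (k : ℕ) (S P Q : DStep) : Bool :=
  match S.r with
  | 0 => Nat.beq S.T 0 && Nat.beq S.i 0 && Nat.beq S.j 0
  | 1 => rDef k S
  | 2 => rMove S P
  | 3 => rLeft S P Q (Nat.beq S.q 0)
  | 4 => rRev S P
  | 5 => rFunc S P Q
  | 6 => rRel S P Q [4] [4] [4] false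
  | 7 => rRel S P Q [] [1] [1] false
  | 8 => rRel S P Q [1] [0] [] false
  | 9 => rRel S P Q [0] [] [1] true
  | 10 => rMul S P Q
  | 11 => rInv S P
  | _ => false

/-- The references of a step are to earlier steps. -/
noncomputable def refsOK (k : ℕ) (S : DStep) : Bool :=
  match S.r with
  | 0 => true
  | 1 => true
  | 2 => Nat.blt 0 S.p && Nat.ble S.p k
  | 3 => Nat.blt 0 S.p && Nat.ble S.p k && Nat.ble S.q k
  | 4 => Nat.blt 0 S.p && Nat.ble S.p k
  | 11 => Nat.blt 0 S.p && Nat.ble S.p k
  | _ => Nat.blt 0 S.p && Nat.ble S.p k && Nat.blt 0 S.q && Nat.ble S.q k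

/-- The check of a step. -/
noncomputable def stepOK (k : ℕ) : Bool :=
  refsOK k (stepAt k) && ruleOK k (stepAt k) (stepAt ((stepAt k).p - 1)) (stepAt ((stepAt k).q - 1))

/-- The number of steps. -/
def nSteps : ℕ := 1303

theorem steps_ok0 : (List.range' 0 660).all stepOK = true := by decide +kernel

theorem steps_ok1 : (List.range' 660 643).all stepOK = true := by decide +kernel

/-- The data of a node: edges, elements fixing it, a forest reaching every point. -/
noncomputable def coverOK (i : ℕ) : Bool :=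
  match covers.getD i ([], [], []) with
  | (es, gs, orb) =>
    (es.all fun e => Nat.blt e nSteps && Nat.beq (stepAt e).T 1 && Nat.beq (stepAt e).i i) &&
      ((gs.all fun g => Nat.blt g nSteps && Nat.beq (stepAt g).T 0 && Nat.beq (stepAt g).i i &&
        Nat.beq (stepAt g).j i && eqW (stepAt g).b []) &&
      (orbW (gs.map fun g => (stepAt g).a) orb
        (es.foldr (fun e m => m ||| 2 ^ run (stepAt e).a 0) 0) == some allPts))

/-- The chain of a node, decoded. -/
noncomputable def levK (i : ℕ) : List Lev :=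
  (chainsK.getD i []).map fun t => (t.1, t.2.1.map fun g => (stepAt g).a, t.2.2)

/-- The elements of the chain fix the node. -/
noncomputable def chainOK (i : ℕ) : Bool :=
  (chainsK.getD i []).all fun t => t.2.1.all fun g =>
    Nat.blt g nSteps && Nat.beq (stepAt g).T 0 && Nat.beq (stepAt g).i i && Nat.beq (stepAt g).j i &&
      eqW (stepAt g).b []

theorem covers_ok : (List.range 9).all coverOK = true := by decide +kernel

theorem edges_ok : ((List.range nSteps).all fun k =>
    Nat.beq (stepAt k).T 0 || Nat.blt (stepAt k).j 9) = true := by decide +kernel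

theorem chains_ok : ((List.range 9).all fun i => chainOK i && levW (levK i)) = true := by
  decide +kernel

theorem chains_prod : (List.range 9).map (fun i => ((levK i).map fun L => L.2.2.length + 1).prod) =
    [177408000, 126000, 5040, 80640, 1440, 500, 240, 640, 30720] := by decide +kernel

theorem paths_zero : pathP 0 = [] := by decide +kernel

end CfsgLib.Sporadic.CosetCert.HNIndex
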