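import Cfsg.Agent.Lib.Sporadic.HNDouble.MatChecks
import Cfsg.Agent.Lib.Sporadic.HNIndex.StepCheck
import Cfsg.Agent.Lib.Sporadic.HNIndex.LowerData

/-!
# Kernel checks: the colours come from the representation of degree 133
-/

set_option autoImplicit false
set_option maxRecDepth 100000

namespace CfsgLib.Sporadic.CosetCert.HNIndex

open PackedMatrix HNDouble OutCert

/-- The matrix of a letter: `x, x⁻¹, y, y⁻¹, z, t, t⁻¹`. -/
noncomputable def matL (c : ℕ) : List ℕ :=
  [mX, mXi, mY, mYi, mZ, mT, mTi].getD c (PackedMatrix.one 133)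

/-- The inverse of a letter. -/
def invL (c : ℕ) : ℕ := [1, 0, 3, 2, 4, 6, 5].getD c c

/-- The word of a node. -/
noncomputable def nodeWord (i : ℕ) : List ℕ :=
  ((pathP i).map fun a => dw a ++ [5]).flatten

/-- The word of the conjugate of `x ^ 2` belonging to a node. -/
noncomputable def conjWord (i : ℕ) : List ℕ :=
  (nodeWord i).reverse.map invL ++ [0, 0] ++ nodeWord i

/-- Multiply by the matrices of a word, keeping numerals. -/
noncomputable def mulWord : List ℕ → List ℕ → (List ℕ → Bool) → Bool
  | [], A, f => f A
  | c :: r, A, f => forceList (PackedMatrix.mul 19 133 A (matL c)) fun R => mulWord r R f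

/-- The graph: two for a loop, one for an edge, zero otherwise. -/
noncomputable def adjV (p q : ℕ) : ℕ :=
  Bool.rec (motive := fun _ => ℕ) (Bool.rec (motive := fun _ => ℕ) 0 1 (Nat.testBit (adjData.getD p 0) q)) 2
    (Nat.beq p q)

/-- The colour of a pair from a matrix. -/
noncomputable def colV (D : List ℕ) (p q : ℕ) : ℕ :=
  Nat.add (Nat.add (dig (D.getD p 0) q) (Nat.mul 19 (dig (D.getD q 0) p))) (Nat.mul 361 (adjV p q))

/-- The colours of a node agree with the representation. -/
noncomputable def colOK (i : ℕ) : Bool :=
  mulWord (conjWord i) mV fun R => forceList (PackedMatrix.mul 19 133 R mW) fun D =>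
    (List.range 100).all fun p =>
      allF (fun q => Nat.beq (lk 11 ((cols.getD i []).getD p 0) q) (colV D p q)) 100

/-- The dual vectors are permuted by a letter. -/
noncomputable def movesW (k : ℕ) (M : List ℕ) : Bool :=
  forceList (PackedMatrix.mul 19 133 M mW) fun R =>
    (List.range 133).all fun r =>
      allF (fun q => Nat.beq (dig (R.getD r 0) q) (dig (mW.getD r 0) (lk 7 k q))) 100

/-- The graph is kept by a permutation. -/
noncomputable def adjOK (k : ℕ) : Bool :=
  (List.range 100).all fun p => allF (fun q => Nat.beq (adjV (lk 7 k p) (lk 7 k q)) (adjV p q)) 100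

theorem mW_ok : ok 19 133 mW = true := by decide +kernel

theorem movesW_ok : movesW kX mX = true ∧ movesW kY mY = true ∧ movesW kZ mZ = true := by
  decide +kernel

theorem adj_ok : adjOK kX = true ∧ adjOK kY = true ∧ adjOK kZ = true := by decide +kernel

theorem col_ok0 : colOK 0 = true ∧ colOK 1 = true ∧ colOK 2 = true ∧ colOK 3 = true := by decide +kernel

theorem col_ok1 : colOK 4 = true ∧ colOK 5 = true := by decide +kernel

theorem col_ok2 : colOK 6 = true ∧ colOK 8 = true := by decide +kernel

theorem col_ok3 : colOK 7 = true := by decide +kernel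

end CfsgLib.Sporadic.CosetCert.HNIndex
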