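import Cfsg.Agent.Lib.Sporadic.HNIndex.Action
import Cfsg.Agent.Lib.Sporadic.HNIndex.StepCheck

/-!
# Soundness of the derivation: the right cosets of `⟨x, y, z⟩` in nine double cosets
-/

set_option autoImplicit false
set_option maxRecDepth 100000

namespace CfsgLib.Sporadic.CosetCert.HNIndex

open OutCert Cfsg.Spor HNDouble

attribute [local irreducible] lk pkF allF compK oneK validK tX tXi tY tYi tZ baseB chainH chainC steps
  paths covers chainsK dw

/-- The two elements give the same right coset. -/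
def Eqv (u v : HN) : Prop := u * v⁻¹ ∈ N0

theorem Eqv.refl (u : HN) : Eqv u u := by
  rw [Eqv, mul_inv_cancel]
  exact one_mem _

theorem Eqv.symm {u v : HN} (h : Eqv u v) : Eqv v u := by
  have := inv_mem h
  rwa [mul_inv_rev, inv_inv] at this

theorem Eqv.trans {u v w : HN} (h : Eqv u v) (k : Eqv v w) : Eqv u w := by
  have := mul_mem h k
  rwa [mul_assoc, inv_mul_cancel_left] at this

theorem Eqv.mul {u v : HN} (h : Eqv u v) (c : HN) : Eqv (u * c) (v * c) := by
  rwa [Eqv, mul_inv_rev, mul_assoc, mul_inv_cancel_left]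

theorem Eqv.mem (n : N0) (u : HN) : Eqv ((n : HN) * u) u := by
  rw [Eqv, mul_inv_cancel_right]
  exact n.2

/-- A word in `HN`. -/
noncomputable def hv (L : List ℕ) : HN := (ev L : HN)

theorem hv_nil : hv [] = 1 := rfl

theorem hv_append (u v : List ℕ) : hv (u ++ v) = hv u * hv v := by
  rw [hv, ev_append]
  rfl

theorem hv_eq {u v : List ℕ} (h : eqW u v = true) : hv u = hv v :=
  congrArg Subtype.val (ev_eq_of_eqW h)

/-- The element of a node. -/
noncomputable def gN (i : ℕ) : HN := ((pathP i).map fun a => hv (dw a) * gT).prod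

theorem gN_zero : gN 0 = 1 := by rw [gN, paths_zero]; rfl

/-- The element of a position. -/
noncomputable def pos (i : ℕ) (a : List ℕ) : HN := gN i * hv a

theorem pos_append (i : ℕ) (a c : List ℕ) : pos i (a ++ c) = pos i a * hv c := by
  rw [pos, pos, hv_append, mul_assoc]

theorem pos_congr {i : ℕ} {a b : List ℕ} (h : eqW a b = true) : pos i a = pos i b := by
  rw [pos, pos, hv_eq h]

/-- The meaning of a step. -/
def Holds (S : DStep) : Prop :=
  (S.T = 0 → Eqv (pos S.i S.a) (pos S.j S.b)) ∧ (S.T = 1 → Eqv (pos S.i S.a * gT) (pos S.j S.b))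

theorem holds_zero {S : DStep} (hT : S.T = 0) (h : Eqv (pos S.i S.a) (pos S.j S.b)) : Holds S :=
  ⟨fun _ => h, fun e => by omega⟩

theorem holds_one {S : DStep} (hT : S.T = 1) (h : Eqv (pos S.i S.a * gT) (pos S.j S.b)) : Holds S :=
  ⟨fun e => by omega, fun _ => h⟩

theorem eqv_rev {u v : HN} (h : Eqv (u * gT) v) : Eqv (v * gX ^ 2 * gT) (u * gX ^ 2) := by
  have e : u * gX ^ 2 = u * gT * gX ^ 2 * gT := by
    calc u * gX ^ 2 = u * gT * gT⁻¹ * gX ^ 2 := by group
      _ = u * gT * (gX ^ 2 * gT * (gX ^ 2 * gX ^ 2)) := by rw [gT_rev]; simp only [mul_assoc]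
      _ = u * gT * (gX ^ 2 * gT * 1) := by
          have h := pow_orderOf_eq_one (nX ^ 2)
          rw [sq_facts.2, pow_two (nX ^ 2)] at h
          rw [show gX ^ 2 * gX ^ 2 = 1 from congrArg Subtype.val h]
      _ = u * gT * gX ^ 2 * gT := by group
  rw [e]
  exact ((h.symm.mul _).mul _)

theorem hv_sq : hv [0, 0] = gX ^ 2 := by
  rw [pow_two]
  simp [hv, ev, nL, nX]

/-- A shape shared by the rules for the relators. -/
theorem eqv_rel {mid sa sb : HN} (hrel : mid * gT * (sa * gT) = gT⁻¹ * sb) {u v w z : HN}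
    (h1 : Eqv (u * gT) v) (h2 : Eqv (v * mid * gT) w) (hz : z = w * sa) : Eqv (z * gT) (u * sb) := by
  have e : u * sb = u * gT * (mid * gT * (sa * gT)) := by rw [hrel]; group
  rw [hz, e]
  have a1 : Eqv (u * gT * (mid * gT * (sa * gT))) (v * (mid * gT * (sa * gT))) := h1.mul _
  have a2 : Eqv (v * mid * gT * (sa * gT)) (w * (sa * gT)) := h2.mul _
  have e2 : v * (mid * gT * (sa * gT)) = v * mid * gT * (sa * gT) := by simp only [mul_assoc]
  rw [e2] at a1
  rw [mul_assoc w sa gT]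
  exact (a1.trans a2).symm

theorem rel_facts :
    hv [4] * gT * (hv [4] * gT) = gT⁻¹ * hv [4] ∧ hv [] * gT * (hv [1] * gT) = gT⁻¹ * hv [1] ∧
    hv [1] * gT * (hv [0] * gT) = gT⁻¹ * hv [] ∧ hv [0] * gT * (hv [] * gT) = gT⁻¹ * (hv [1])⁻¹ := by
  obtain ⟨h5, hx, -, hz3⟩ := t_rels
  have h4 : hv [4] = gZ := by simp [hv, ev, nL, nZ]
  have h1 : hv [1] = gX⁻¹ := by simp [hv, ev, nL, nX]
  have h0 : hv [0] = gX := by simp [hv, ev, nL, nX]
  have zz : gZ * gZ = 1 := by rw [← pow_two]; exact hn_rels.2.2.2.2.2.2.1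
  rw [h4, h1, h0, hv_nil]
  have b : gT * gX⁻¹ * gT = gT⁻¹ * gX⁻¹ := by
    calc gT * gX⁻¹ * gT = gT⁻¹ * (gT ^ 2 * (gX⁻¹ * gT * gX * gT ^ 2) * (gT ^ 2)⁻¹) * gX⁻¹ := by group
      _ = gT⁻¹ * gX⁻¹ := by rw [hx]; group
  refine ⟨?_, ?_, ?_, ?_⟩
  · apply eq_of_div_eq_one
    calc (gZ * gT * (gZ * gT)) / (gT⁻¹ * gZ) = (gZ * gT) * (gZ * gT) * gZ⁻¹ * gT := by
          rw [div_eq_mul_inv]; group
      _ = (gZ * gT) * (gZ * gT) * gZ * gT := by rw [inv_eq_of_mul_eq_one_right zz]
      _ = (gZ * gT) ^ 3 := by simp only [pow_succ, pow_zero, one_mul, mul_assoc]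
      _ = 1 := hz3
  · calc 1 * gT * (gX⁻¹ * gT) = gT * gX⁻¹ * gT := by group
      _ = gT⁻¹ * gX⁻¹ := b
  · calc gX⁻¹ * gT * (gX * gT) = gX⁻¹ * gT * gX * gT ^ 2 * gT⁻¹ := by group
      _ = gT⁻¹ * 1 := by rw [hx]; group
  · rw [inv_inv]
    calc gX * gT * (1 * gT) = gT⁻¹ * gX * (gX⁻¹ * gT * gX * gT ^ 2) := by
          simp only [pow_two]; group
      _ = gT⁻¹ * gX := by rw [hx, mul_one]

theorem rule_sound {k : ℕ} {S P Q : DStep} (hS : stepAt k = S) (h : ruleOK k S P Q = true)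
    (hP : (S.r ≠ 0 ∧ S.r ≠ 1) → Holds P)
    (hQ : (S.r ≠ 0 ∧ S.r ≠ 1 ∧ S.r ≠ 2 ∧ S.r ≠ 4 ∧ S.r ≠ 11 ∧ (S.r = 3 → S.q ≠ 0)) → Holds Q) :
    Holds S := by
  unfold ruleOK at h
  split at h
  · simp only [Bool.and_eq_true, Nat.beq_eq] at h
    obtain ⟨⟨hT, hi⟩, hj⟩ := h
    refine holds_zero hT ?_
    rw [Eqv, pos, pos, hi, hj, gN_zero, one_mul, one_mul]
    exact mul_mem (ev _).2 (inv_mem (ev _).2)
  · rename_i hr
    simp only [rDef, Bool.and_eq_true, Nat.beq_eq, List.isEmpty_iff, beq_iff_eq] at h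
    obtain ⟨⟨hT, hb⟩, hp⟩ := h
    refine holds_one hT ?_
    have e : S.a = dw (((steps.getD (k / 64) []).getD (k % 64) (99, 0, 0, 0, 0, 0, 0, 0, 0)).2.2.2.2.2.2.1) := by
      rw [← hS]; rfl
    have : pos S.j S.b = pos S.i S.a * gT := by
      rw [pos, hb, hv_nil, mul_one, gN, hp, List.map_append, List.prod_append, List.map_singleton,
        List.prod_singleton, ← e, ← mul_assoc]
      rfl
    rw [this]
    exact Eqv.refl _
  · rename_i hr
    have hP := hP (by omega)
    simp only [rMove, Bool.and_eq_true, Bool.or_eq_true, Nat.beq_eq] at h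
    obtain ⟨⟨⟨⟨⟨hT, hi⟩, hj⟩, ha⟩, hb⟩, hc⟩ := h
    refine ⟨fun e => ?_, fun e => ?_⟩
    · rw [pos_congr ha, pos_congr hb, pos_append, pos_append, hi, hj]
      exact (hP.1 (hT ▸ e)).mul _
    · have hc' : Commute (hv S.c) gT := commute_of_run (hc.resolve_left (by omega))
      rw [pos_congr ha, pos_congr hb, pos_append, pos_append, mul_assoc, hc'.eq, ← mul_assoc, hi, hj]
      exact (hP.2 (hT ▸ e)).mul _
  · rename_i hr
    have hP := hP (by omega)
    simp only [rLeft, Bool.and_eq_true, Nat.beq_eq] at h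
    obtain ⟨⟨⟨⟨⟨⟨hT, hPT⟩, hi⟩, hj⟩, hc⟩, hb⟩, ha⟩ := h
    have hc' : Commute (hv S.c) gT := commute_of_run hc
    refine holds_one hT ?_
    have h1 : Eqv (gN S.i * (hv P.a * hv S.c) * gT) (pos S.j S.b) := by
      rw [pos_congr hb, pos_append, hi, hj, ← mul_assoc, mul_assoc _ (hv S.c) gT, hc'.eq, ← mul_assoc]
      exact (hP.2 hPT).mul _
    rcases Nat.eq_zero_or_pos S.q with hq | hq
    · rw [hq] at ha
      rw [show Nat.beq 0 0 = true from rfl, cond_true] at ha
      rwa [pos, hv_eq ha, hv_append]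
    · have hb' : Nat.beq S.q 0 = false := by
        rw [Bool.eq_false_iff, Ne, Nat.beq_eq]
        omega
      rw [hb'] at ha
      simp only [cond_false, Bool.and_eq_true, Bool.or_eq_true, Nat.beq_eq] at ha
      obtain ⟨⟨⟨⟨hQT, hQi⟩, hQj⟩, hQb⟩, ha⟩ := ha
      have hQ := (hQ (by omega)).1 hQT
      rw [pos, pos, hv_eq hQb, hv_nil, mul_one, hQi, hQj] at hQ
      rcases ha with ha | ha
      · have e := hv_eq ha
        rw [hv_append, hv_append] at e
        refine Eqv.trans ?_ h1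
        rw [← e, pos, ← mul_assoc (gN S.i)]
        exact ((hQ.mul (hv S.a)).mul gT).symm
      · rw [pos, hv_eq ha, hv_append, hv_append, ← mul_assoc (gN S.i)]
        exact ((hQ.mul _).mul gT).trans h1
  · rename_i hr
    have hP := hP (by omega)
    simp only [rRev, Bool.and_eq_true, Nat.beq_eq] at h
    obtain ⟨⟨⟨⟨⟨hT, hPT⟩, hi⟩, hj⟩, ha⟩, hb⟩ := h
    refine holds_one hT ?_
    rw [pos_congr ha, pos_congr hb, pos_append, pos_append, hv_sq, hi, hj]
    exact eqv_rev (hP.2 hPT)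
  · rename_i hr
    have hP := hP (by omega)
    have hQ := hQ (by omega)
    simp only [rFunc, kinds, Bool.and_eq_true, Nat.beq_eq] at h
    obtain ⟨⟨⟨⟨⟨⟨⟨hT, hPT, hQT⟩, hpi⟩, hpa⟩, hi⟩, hj⟩, ha⟩, hb⟩ := h
    refine holds_zero hT ?_
    rw [pos_congr ha, pos_congr hb, hi, hj]
    have h1 := hP.2 hPT
    rw [pos_congr hpa, hpi] at h1
    exact h1.symm.trans (hQ.2 hQT)
  case h_12 hr =>
    have hP := hP (by omega)
    simp only [rInv, Bool.and_eq_true, Nat.beq_eq] at h
    obtain ⟨⟨⟨⟨⟨⟨⟨hT, hPT⟩, hj⟩, hPi⟩, hPj⟩, hPb⟩, hb⟩, ha⟩ := h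
    refine holds_zero hT ?_
    have e : hv P.a = (hv S.a)⁻¹ := by
      apply eq_inv_of_mul_eq_one_right
      rw [← hv_append, hv_eq ha, hv_nil]
    have h1 := hP.1 hPT
    rw [pos, pos, hv_eq hPb, hv_nil, mul_one, hPi, hPj, e] at h1
    have := h1.mul (hv S.a)
    rw [inv_mul_cancel_right] at this
    rw [pos, pos, hv_eq hb, hv_nil, mul_one, hj]
    exact this.symm
  case h_11 hr =>
    have hP := hP (by omega)
    have hQ := hQ (by omega)
    simp only [rMul, kinds, Bool.and_eq_true, Nat.beq_eq] at h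
    obtain ⟨⟨⟨⟨⟨⟨⟨⟨⟨⟨hT, hPT, hQT⟩, hj⟩, hPi⟩, hPj⟩, hQi⟩, hQj⟩, hPb⟩, hQb⟩, hb⟩, ha⟩ := h
    refine holds_zero hT ?_
    have h1 := hP.1 hPT
    have h2 := hQ.1 hQT
    rw [pos, pos, hv_eq hPb, hv_nil, mul_one, hPi, hPj] at h1
    rw [pos, pos, hv_eq hQb, hv_nil, mul_one, hQi, hQj] at h2
    rw [pos, pos, hv_eq hb, hv_nil, mul_one, hv_eq ha, hv_append, hj, ← mul_assoc]
    exact (h1.mul _).trans h2
  case h_13 => exact Bool.noConfusion h
  all_goals
    rename_i hr
    have hP := hP (by omega)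
    have hQ := hQ (by omega)
    simp only [rRel, kinds, Bool.and_eq_true, Nat.beq_eq, cond_true, cond_false] at h
    obtain ⟨⟨⟨⟨⟨⟨⟨hT, hPT, hQT⟩, hQi⟩, hQa⟩, hi⟩, hj⟩, ha⟩, hb⟩ := h
    refine holds_one hT ?_
    have h1 := hP.2 hPT
    have h2 := hQ.2 hQT
    rw [pos_congr hQa, pos_append, hQi] at h2
    rw [pos_congr ha, pos_append, hi, hj]
  · rw [pos_congr hb, pos_append]
    exact eqv_rel rel_facts.1 h1 h2 rfl
  · rw [pos_congr hb, pos_append]
    exact eqv_rel rel_facts.2.1 h1 h2 rfl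
  · rw [pos_congr hb, pos_append]
    exact eqv_rel rel_facts.2.2.1 h1 h2 rfl
  · have e := hv_eq hb
    rw [hv_append] at e
    have := eqv_rel rel_facts.2.2.2 h1 h2 rfl
    simp only [pos] at this ⊢
    rw [← e, ← mul_assoc (gN P.i), mul_inv_cancel_right] at this
    exact this

theorem step_holds : ∀ k < nSteps, Holds (stepAt k) := by
  intro k
  induction k using Nat.strong_induction_on with
  | _ k ih =>
    intro hk
    have hc : stepOK k = true := by
      have h0 := List.all_eq_true.1 steps_ok0 k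
      have h1 := List.all_eq_true.1 steps_ok1 k
      simp only [List.mem_range'_1, nSteps] at h0 h1 hk
      rcases lt_or_ge k 660 with h | h
      · exact h0 ⟨by omega, by omega⟩
      · exact h1 ⟨h, by omega⟩
    simp only [stepOK, Bool.and_eq_true] at hc
    obtain ⟨href, hrule⟩ := hc
    refine rule_sound rfl hrule (fun hr => ?_) (fun hr => ?_)
    · unfold refsOK at href
      split at href <;> first | omega | skip
      all_goals
        simp only [Bool.and_eq_true, Nat.blt_eq, Nat.ble_eq] at href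
        exact ih _ (by omega) (by omega)
    · unfold refsOK at href
      split at href <;> first | omega | skip
      all_goals
        simp only [Bool.and_eq_true, Nat.blt_eq, Nat.ble_eq] at href
        exact ih _ (by omega) (by omega)

/-- The elements of `N₀` fixing the right coset of a node. -/
noncomputable def nodeStab (i : ℕ) : Subgroup N0 :=
  (N0.comap (MulAut.conj (gN i)).toMonoidHom).subgroupOf N0

theorem mem_nodeStab {i : ℕ} {h : N0} : h ∈ nodeStab i ↔ Eqv (gN i * (h : HN)) (gN i) := Iff.rfl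

theorem gen_mem_nodeStab {i g : ℕ} (h : (Nat.blt g nSteps && Nat.beq (stepAt g).T 0 &&
    Nat.beq (stepAt g).i i && Nat.beq (stepAt g).j i && eqW (stepAt g).b []) = true) :
    ev (stepAt g).a ∈ nodeStab i := by
  simp only [Bool.and_eq_true, Nat.blt_eq, Nat.beq_eq] at h
  obtain ⟨⟨⟨⟨hg, hT⟩, hi⟩, hj⟩, hb⟩ := h
  have := (step_holds g hg).1 hT
  rw [pos, pos, hv_eq hb, hv_nil, mul_one, hi, hj] at this
  exact mem_nodeStab.2 this

theorem covered {i : ℕ} (hi : i < 9) (h : N0) :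
    ∃ j < 9, ∃ n : N0, Eqv (gN i * (h : HN) * gT) (gN j * (n : HN)) := by
  classical
  have hc := List.all_eq_true.1 covers_ok i (List.mem_range.2 hi)
  unfold coverOK at hc
  obtain ⟨⟨es, gs, orb⟩, hce⟩ : ∃ c, covers.getD i ([], [], []) = c := ⟨_, rfl⟩
  rw [hce] at hc
  simp only [Bool.and_eq_true, List.all_eq_true, beq_iff_eq] at hc
  obtain ⟨hes, hgs, horb⟩ := hc
  let R : Fin 1408 → Prop := fun q => ∃ e ∈ es, ∃ k ∈ nodeStab i,
    phi (k * ev (stepAt e).a) 0 = q
  obtain ⟨hR, -, -⟩ := orbW_spec (K := nodeStab i) (R := R)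
    (fun g hg => by
      obtain ⟨g', hg', rfl⟩ := List.mem_map.1 hg
      exact gen_mem_nodeStab (by simpa only [Bool.and_eq_true] using hgs g' hg'))
    (fun k hk q hq => by
      obtain ⟨e, he, k', hk', rfl⟩ := hq
      exact ⟨e, he, k * k', mul_mem hk hk', by rw [mul_assoc, map_mul, Equiv.Perm.mul_apply]⟩) horb
    (fun q hq => by
      have : ∀ (l : List ℕ), (∀ e ∈ l, e ∈ es) →
          (l.foldr (fun e m => m ||| 2 ^ run (stepAt e).a 0) 0).testBit q = true → R q := by
        intro l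
        induction l with
        | nil => intro _ h; simp at h
        | cons e t ih =>
          intro hl h
          rw [List.foldr_cons, Nat.testBit_lor, Bool.or_eq_true, Nat.testBit_two_pow,
            decide_eq_true_eq] at h
          rcases h with h | h
          · exact ih (fun x hx => hl x (List.mem_cons_of_mem _ hx)) h
          · refine ⟨e, hl e List.mem_cons_self, 1, one_mem _, Fin.ext ?_⟩
            rw [one_mul, ← run_eq]
            exact h
      exact this es (fun _ h => h) hq)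
  obtain ⟨e, he, k, hk, hq⟩ := hR (phi h 0) (by
    rw [allPts, Nat.testBit_two_pow_sub_one, decide_eq_true_eq]
    exact (phi h 0).2)
  have hce : Commute (((k * ev (stepAt e).a)⁻¹ * h : N0) : HN) gT := by
    refine commute_of_fix ?_
    rw [map_mul, map_inv, Equiv.Perm.mul_apply, ← hq]
    simp
  obtain ⟨⟨heN, heT⟩, hei⟩ := (by simpa only [Bool.and_eq_true, Nat.blt_eq, Nat.beq_eq] using hes e he :
    (e < nSteps ∧ (stepAt e).T = 1) ∧ (stepAt e).i = i)
  have hj : (stepAt e).j < 9 := by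
    have := List.all_eq_true.1 edges_ok e (List.mem_range.2 heN)
    simpa [heT] using this
  refine ⟨(stepAt e).j, hj, ev (stepAt e).b * ((k * ev (stepAt e).a)⁻¹ * h), ?_⟩
  have h1 := ((step_holds e heN).2 heT).mul (((k * ev (stepAt e).a)⁻¹ * h : N0) : HN)
  rw [pos, pos, hei, mul_assoc _ gT, ← hce.eq] at h1
  have h2 := ((mem_nodeStab.1 hk).mul ((((ev (stepAt e).a) * ((k * ev (stepAt e).a)⁻¹ * h) : N0) : HN))).mul gT
  rw [Subgroup.coe_mul, hv, hv] at *
  refine Eqv.trans ?_ (h1.trans ?_)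
  · have e1 : gN i * (h : HN) = gN i * (k : HN) *
        ((ev (stepAt e).a : HN) * (((k * ev (stepAt e).a)⁻¹ * h : N0) : HN)) := by
      push_cast
      group
    rw [e1]
    simp only [Subgroup.coe_mul, Subgroup.coe_inv, mul_assoc] at h2 ⊢
    exact h2
  · rw [mul_assoc]
    exact Eqv.refl _

theorem exists_node (g : HN) : ∃ i < 9, ∃ n : N0, Eqv g (gN i * (n : HN)) := by
  have stepN : ∀ (g : HN) (c : N0), (∃ i < 9, ∃ n : N0, Eqv g (gN i * (n : HN))) →
      ∃ i < 9, ∃ n : N0, Eqv (g * (c : HN)) (gN i * (n : HN)) := by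
    rintro g c ⟨i, hi, n, hn⟩
    exact ⟨i, hi, n * c, by simpa only [Subgroup.coe_mul, mul_assoc] using hn.mul (c : HN)⟩
  have stepT : ∀ g : HN, (∃ i < 9, ∃ n : N0, Eqv g (gN i * (n : HN))) →
      ∃ i < 9, ∃ n : N0, Eqv (g * gT) (gN i * (n : HN)) := by
    rintro g ⟨i, hi, n, hn⟩
    obtain ⟨j, hj, m, hm⟩ := covered hi n
    exact ⟨j, hj, m, (hn.mul gT).trans hm⟩
  have hgen : Subgroup.closure (Set.range (PresentedGroup.of (rels :=
      coxRelators HN.edges ∪ {r | r ∈ HN.extra}))) = ⊤ := PresentedGroup.closure_range_of _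
  have hg : g ∈ Subgroup.closure (Set.range (PresentedGroup.of (rels :=
      coxRelators HN.edges ∪ {r | r ∈ HN.extra}))) := hgen ▸ Subgroup.mem_top g
  induction hg using Subgroup.closure_induction_right with
  | one => exact ⟨0, by norm_num, 1, by rw [gN_zero, OneMemClass.coe_one, mul_one]; exact Eqv.refl _⟩
  | mul_right g a _ ha ih =>
    obtain ⟨a, rfl⟩ := ha
    cases a
    · exact stepN g nX ih
    · exact stepN g nY ih
    · exact stepN g nZ ih
    · exact stepT g ih
  | mul_inv_cancel g a _ ha ih =>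
    obtain ⟨a, rfl⟩ := ha
    cases a
    · exact stepN g nX⁻¹ ih
    · exact stepN g nY⁻¹ ih
    · exact stepN g nZ⁻¹ ih
    · have := stepN _ (nX ^ 2) (stepT _ (stepN g (nX ^ 2) ih))
      show ∃ i < 9, ∃ n : N0, Eqv (g * gT⁻¹) (gN i * (n : HN))
      rw [gT_rev]
      simpa only [SubmonoidClass.coe_pow, nX, mul_assoc] using this

/-- The coset of a point of the nine orbits. -/
noncomputable def orbMap : (Σ i : Fin 9, N0 ⧸ nodeStab i) → HN ⧸ N0 := fun x =>
  Quotient.liftOn' x.2 (fun b => ((b : HN) * (gN x.1)⁻¹ : HN)) fun b c hbc => by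
    rw [QuotientGroup.leftRel_apply] at hbc
    rw [QuotientGroup.eq]
    have := mem_nodeStab.1 hbc
    rw [Eqv, Subgroup.coe_mul, Subgroup.coe_inv] at this
    simpa only [mul_inv_rev, inv_inv, mul_assoc] using this

theorem orbMap_surjective : Function.Surjective orbMap := by
  intro c
  induction c using QuotientGroup.induction_on with
  | _ g =>
    obtain ⟨i, hi, n, hn⟩ := exists_node g⁻¹
    refine ⟨⟨⟨i, hi⟩, QuotientGroup.mk n⁻¹⟩, ?_⟩
    show (((n⁻¹ : N0) : HN) * (gN i)⁻¹ : HN ⧸ N0) = _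
    rw [QuotientGroup.eq, Subgroup.coe_inv]
    have := inv_mem hn
    simpa only [mul_inv_rev, inv_inv, mul_assoc] using this

/-- The sizes of the chains. -/
def chainSize : List ℕ := [177408000, 126000, 5040, 80640, 1440, 500, 240, 640, 30720]

theorem chainSize_le (i : Fin 9) : chainSize.getD i 0 ≤ Nat.card (nodeStab i) := by
  have h := List.all_eq_true.1 chains_ok i (List.mem_range.2 i.2)
  simp only [Bool.and_eq_true, chainOK, List.all_eq_true] at h
  have hc := levW_card (levK i) (nodeStab i) h.2 fun L hL g hg => by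
    simp only [levK, List.mem_map] at hL
    obtain ⟨t, ht, rfl⟩ := hL
    simp only [List.mem_map] at hg
    obtain ⟨g', hg', rfl⟩ := hg
    exact gen_mem_nodeStab (by simpa only [Bool.and_eq_true] using h.1 t ht g' hg')
  have e : ((levK i).map fun L => L.2.2.length + 1).prod = chainSize.getD i 0 := by
    have := congrArg (fun l => l.getD (i : ℕ) 0) chains_prod
    simpa [chainSize, List.getD_eq_getElem?_getD, i.2] using this
  rw [e] at hc
  exact le_trans (Nat.le_mul_of_pos_right _ Nat.card_pos) hc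

theorem index_nodeStab_le (i : Fin 9) :
    (nodeStab i).index ≤ [1, 1408, 35200, 2200, 123200, 354816, 739200, 277200, 5775].getD (i : ℕ) 0 := by
  have h1 := chainSize_le i
  have h2 := (nodeStab i).card_mul_index
  rw [card_N0_eq] at h2
  have h3 : 0 < chainSize.getD i 0 := by
    fin_cases i <;> simp [chainSize]
  have h4 : (nodeStab i).index * chainSize.getD i 0 ≤ 177408000 :=
    le_trans (Nat.mul_le_mul_left _ h1) (by rw [mul_comm]; omega)
  have h5 : 177408000 = [1, 1408, 35200, 2200, 123200, 354816, 739200, 277200, 5775].getD (i : ℕ) 0 *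
      chainSize.getD i 0 := by
    fin_cases i <;> simp [chainSize]
  exact Nat.le_of_mul_le_mul_right (h4.trans h5.le) h3

theorem index_le : N0.index ≤ 1539000 ∧ N0.index ≠ 0 := by
  have : Finite (Σ i : Fin 9, N0 ⧸ nodeStab i) := inferInstance
  have hfin : Finite (HN ⧸ N0) := Finite.of_surjective _ orbMap_surjective
  refine ⟨?_, Subgroup.index_ne_zero_of_finite⟩
  refine (Nat.card_le_card_of_surjective _ orbMap_surjective).trans ?_
  rw [Nat.card_sigma]
  refine (Finset.sum_le_sum fun i _ => index_nodeStab_le i).trans ?_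
  simp [Fin.sum_univ_succ]

end CfsgLib.Sporadic.CosetCert.HNIndex
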