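import Cfsg.Agent.Lib.Sporadic.OutCert.Perm
import Cfsg.Agent.Lib.Sporadic.PackedMatrix
import Cfsg.Agent.Lib.Sporadic.HNIndex.LowerData

/-!
# Kernel checks: refinements of the colours

The class of a point is refined by hashing its class with the classes and colours seen from it.
-/

set_option autoImplicit false
set_option maxRecDepth 100000

namespace CfsgLib.Sporadic.CosetCert.HNIndex

open PackedMatrix OutCert

/-- The modulus of the hash. -/
def hMod : ℕ := 1099511627689

/-- The hash of a colour and a class. -/
noncomputable def hsh (c x : ℕ) : ℕ :=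
  forced (fun y => Nat.mod (Nat.mul y (Nat.mul y y)) hMod) (Nat.add (Nat.add (Nat.mul x 1000003) c) 1)

/-- The first classes: the places in the base. -/
noncomputable def cls0 (base : List ℕ) (p : ℕ) : ℕ :=
  List.rec (motive := fun _ => ℕ → ℕ) (fun _ => 0)
    (fun b _ ih j => Bool.rec (motive := fun _ => ℕ) (ih (Nat.succ j)) (Nat.succ j) (Nat.beq p b)) base 0

/-- The sum of the hashes seen from a point with the colours `row`. -/
noncomputable def seenSum (row cls : ℕ) : ℕ :=
  Nat.rec (motive := fun _ => ℕ) 0
    (fun q ih => Nat.add (hsh (lk 11 row q) (lk 40 cls q)) ih) 100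

/-- The new class of a point. -/
noncomputable def newCls (col : List ℕ) (cls p : ℕ) : ℕ :=
  forced (fun row => Nat.mod (Nat.add (Nat.mul 31 (hsh (Nat.add 2000 (lk 11 row p)) (lk 40 cls p)))
    (seenSum row cls)) hMod) (col.getD p 0)

/-- One round. -/
noncomputable def round (col : List ℕ) (cls : ℕ) : ℕ := forced (fun c => c) (pkF 40 (newCls col cls) 100 0)

/-- Four rounds. -/
noncomputable def refine (col : List ℕ) (base : List ℕ) : ℕ :=
  forced (fun c1 => forced (fun c2 => forced (fun c3 => round col c3) (round col c2)) (round col c1))
    (round col (pkF 40 (cls0 base) 100 0))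

/-- The number of points in the class of a point. -/
noncomputable def classSize (cls b : ℕ) : ℕ :=
  Nat.rec (motive := fun _ => ℕ) 0
    (fun p ih => Bool.rec (motive := fun _ => ℕ) ih (Nat.succ ih) (Nat.beq (lk 40 cls p) (lk 40 cls b))) 100

/-- The classes are single points. -/
noncomputable def discrete (cls : ℕ) : Bool :=
  allF (fun p => allF (fun q => Nat.beq p q || !Nat.beq (lk 40 cls p) (lk 40 cls q)) 100) 100

/-- The base with the sizes of the classes is right. -/
noncomputable def baseOK (col : List ℕ) : List (ℕ × ℕ) → List ℕ → Bool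
  | [], pre => forced discrete (refine col pre)
  | (b, s) :: r, pre => Nat.blt b 100 && forced (fun c => Nat.ble (classSize c b) s) (refine col pre) &&
      baseOK col r (pre ++ [b])

/-- An invariant of a node. -/
noncomputable def hist (col : List ℕ) : ℕ :=
  forced (fun cls => Nat.rec (motive := fun _ => ℕ) 0 (fun p ih => Nat.add (hsh 0 (lk 40 cls p)) ih) 100)
    (refine col [])

/-- The data of a node. -/
noncomputable def nodeOK (i : ℕ) : Bool := baseOK (cols.getD i []) (bases.getD i []) []

theorem nodes_ok0 : nodeOK 1 = true ∧ nodeOK 2 = true ∧ nodeOK 3 = true ∧ nodeOK 4 = true := by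
  decide +kernel

theorem nodes_ok1 : nodeOK 5 = true ∧ nodeOK 6 = true ∧ nodeOK 7 = true ∧ nodeOK 8 = true := by
  decide +kernel

theorem hists_ok : ((List.range 9).map fun i => Nat.mod (hist (cols.getD i [])) hMod) =
    [51443967934, 909139587944, 879359220513, 192236074688, 310436278433, 332234250635, 1010359874949,
      294803484591, 502453446668] := by decide +kernel

theorem bases_prod : (bases.map fun l => (l.map fun e => e.2).prod) =
    [88704000, 126000, 5040, 80640, 1440, 500, 240, 640, 15360] := by decide +kernel

theorem bases_len : bases.length = 9 := by decide +kernel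

theorem base_len : ∀ i : Fin 9, 0 + (bases.getD (i : ℕ) []).length < 100 := by decide +kernel

end CfsgLib.Sporadic.CosetCert.HNIndex
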