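import Cfsg.Agent.Lib.Sporadic.HNIndex.ColCheck

/-!
# Kernel checks: elements outside the stabilisers of the nodes

`x ^ 2` does not fix the nodes 1, 2, 4, 5, 6, 7; the inverse of `x` keeps the colours of node 3 without fixing it.
-/

set_option autoImplicit false
set_option maxRecDepth 100000

namespace CfsgLib.Sporadic.CosetCert.HNIndex

open PackedMatrix HNDouble OutCert

/-- The conjugate of `x ^ 2` of the node does not commute with `x ^ 2`. -/
noncomputable def sqOK (i : ℕ) : Bool :=
  mulWord (conjWord i) mV fun R => mulWord [0, 0] R fun S =>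
    !((List.range 100).all fun p => Nat.beq (S.getD p 0) (R.getD p 0))

theorem sq_ok0 : sqOK 1 = true ∧ sqOK 2 = true ∧ sqOK 4 = true := by decide +kernel

theorem sq_ok1 : sqOK 5 = true ∧ sqOK 6 = true ∧ sqOK 7 = true := by decide +kernel

/-- The inverse of `x` does not commute with the conjugate of `x ^ 2` of node 3. -/
noncomputable def twistOK : Bool :=
  mulWord (1 :: conjWord 3) (PackedMatrix.one 133) fun R =>
    mulWord (conjWord 3 ++ [1]) (PackedMatrix.one 133) fun S => !eqList R S

/-- The inverse of `x` keeps the colours of node 3. -/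
noncomputable def twistIso : Bool :=
  (List.range 100).all fun p => allF (fun q =>
    Nat.beq (lk 11 ((cols.getD 3 []).getD (lk 7 kX p) 0) (lk 7 kX q)) (lk 11 ((cols.getD 3 []).getD p 0) q)) 100

theorem twist_ok : twistOK = true ∧ twistIso = true := by decide +kernel

end CfsgLib.Sporadic.CosetCert.HNIndex
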