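import Cfsg.Agent.Lib.Sporadic.HNIndex.Derive
import Cfsg.Agent.Lib.Sporadic.HNIndex.SqCheck
import Cfsg.Agent.Lib.Sporadic.HNIndex.RefineCheck

/-!
# The nine double cosets are distinct and their stabilisers are no larger than the chains
-/

set_option autoImplicit false
set_option maxRecDepth 100000

namespace CfsgLib.Sporadic.CosetCert.HNIndex

open PackedMatrix OutCert Cfsg.Spor HNDouble

attribute [local irreducible] PackedMatrix.mul PackedMatrix.ok PackedMatrix.one dig dec red rowMul
  mX mXi mY mYi mZ mT mTi mV mW adjData cols bases lk pkF allF compK oneK validK kX kY kYi kZ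
  tX tXi tY tYi tZ baseB steps paths covers chainsK dw hMod

/-- The element of a letter of seven. -/
noncomputable def gen7 (c : ℕ) : HN := [gX, gX⁻¹, gY, gY⁻¹, gZ, gT, gT⁻¹].getD c 1

theorem ok_matL (c : ℕ) : ok 19 133 (matL c) = true := by
  obtain ⟨o1, o2, o3, o4, o5, o6, o7, -, o9⟩ := oks
  unfold matL
  match c with
  | 0 => exact o1
  | 1 => exact o2
  | 2 => exact o3
  | 3 => exact o4
  | 4 => exact o5
  | 5 => exact o6
  | 6 => exact o7
  | k + 7 => exact o9

theorem rho_gen7 (c : ℕ) : ((rho (gen7 c) : M133ˣ) : M133) = md (matL c) := by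
  obtain ⟨⟨hx, hxi⟩, ⟨hy, hyi⟩, ⟨hz, -⟩, ⟨ht, hti⟩⟩ := genMat_val
  unfold gen7 matL
  match c with
  | 0 => exact (congrArg Units.val (rho_of .x)).trans hx
  | 1 => exact (congrArg Units.val ((map_inv rho _).trans (congrArg _ (rho_of .x)))).trans hxi
  | 2 => exact (congrArg Units.val (rho_of .y)).trans hy
  | 3 => exact (congrArg Units.val ((map_inv rho _).trans (congrArg _ (rho_of .y)))).trans hyi
  | 4 => exact (congrArg Units.val (rho_of .z)).trans hz
  | 5 => exact (congrArg Units.val (rho_of .t)).trans ht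
  | 6 => exact (congrArg Units.val ((map_inv rho _).trans (congrArg _ (rho_of .t)))).trans hti
  | k + 7 =>
    simp only [List.getD_cons_succ, List.getD_nil, map_one, Units.val_one]
    exact dec_one.symm

theorem mulWord_spec : ∀ (L : List ℕ) (A : List ℕ) (f : List ℕ → Bool), ok 19 133 A = true →
    mulWord L A f = true → ∃ R, f R = true ∧ ok 19 133 R = true ∧
      md R = md A * ((rho (L.map gen7).prod : M133ˣ) : M133)
  | [], A, f, hA, h => ⟨A, h, hA, by rw [List.map_nil, List.prod_nil, map_one, Units.val_one, mul_one]⟩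
  | c :: r, A, f, hA, h => by
    simp only [mulWord, forceList_eq] at h
    obtain ⟨R, h1, h2, h3⟩ := mulWord_spec r _ f (ok_mul (by norm_num) (by norm_num) hA _) h
    refine ⟨R, h1, h2, ?_⟩
    rw [h3, List.map_cons, List.prod_cons, map_mul, Units.val_mul, rho_gen7, ← mul_assoc]
    unfold md
    rw [dec_mul (p := 19) (n := 133) (by norm_num) (by norm_num) hA (ok_matL c)]

theorem gen7_inv : ∀ c, c < 7 → gen7 (invL c) = (gen7 c)⁻¹ := by
  intro c hc
  have hz : gZ⁻¹ = gZ := inv_eq_of_mul_eq_one_right (by rw [← pow_two]; exact hn_rels.2.2.2.2.2.2.1)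
  match c, hc with
  | 0, _ => simp [gen7, invL]
  | 1, _ => simp [gen7, invL]
  | 2, _ => simp [gen7, invL]
  | 3, _ => simp [gen7, invL]
  | 4, _ => simp [gen7, invL, hz]
  | 5, _ => simp [gen7, invL]
  | 6, _ => simp [gen7, invL]
  | k + 7, h => omega

theorem gen7_invL (c : ℕ) : gen7 (invL c) = (gen7 c)⁻¹ := by
  rcases lt_or_ge c 7 with h | h
  · exact gen7_inv c h
  · obtain ⟨k, rfl⟩ := Nat.exists_eq_add_of_le' h
    have e : invL (k + 7) = k + 7 := by simp [invL, List.getD_cons_succ]
    rw [e]
    simp [gen7, List.getD_cons_succ]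

theorem prod_invL : ∀ L : List ℕ, ((L.reverse.map invL).map gen7).prod = ((L.map gen7).prod)⁻¹
  | [] => by simp
  | c :: r => by
    rw [List.reverse_cons, List.map_append, List.map_append, List.prod_append, prod_invL r]
    simp [gen7_invL, mul_inv_rev]

theorem gen7_eq_nL (c : ℕ) (h : c < 5) : gen7 c = (nL c : HN) := by
  match c, h with
  | 0, _ => rfl
  | 1, _ => rfl
  | 2, _ => rfl
  | 3, _ => rfl
  | 4, _ => rfl
  | k + 5, h => omega

/-- The letters of the packed paths are below five. -/
theorem path_letters : ((List.range 9).all fun i => (pathP i).all fun a =>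
    (dw a).all fun c => Nat.blt c 5) = true := by decide +kernel

/-- The conjugate of `x ^ 2` belonging to a node. -/
noncomputable def conjX (i : ℕ) : HN := (gN i)⁻¹ * gX ^ 2 * gN i

theorem conjWord_eq {i : ℕ} (hi : i < 9) : ((conjWord i).map gen7).prod = conjX i := by
  have hl := List.all_eq_true.1 path_letters i (List.mem_range.2 hi)
  simp only [List.all_eq_true, Nat.blt_eq] at hl
  have hg : ((nodeWord i).map gen7).prod = gN i := by
    unfold nodeWord gN
    generalize hp : pathP i = P at hl ⊢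
    clear hp
    induction P with
    | nil => rfl
    | cons a t ih =>
      rw [List.map_cons, List.flatten_cons, List.map_append, List.prod_append, List.map_cons,
        List.prod_cons, ih fun b hb => hl b (List.mem_cons_of_mem _ hb)]
      congr 1
      rw [List.map_append, List.prod_append, List.map_singleton, List.prod_singleton,
        show gen7 5 = gT from rfl]
      congr 1
      have ha := hl a List.mem_cons_self
      generalize dw a = L at ha ⊢
      induction L with
      | nil => rfl
      | cons c u ihu =>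
        rw [List.map_cons, List.prod_cons, ihu fun d hd => ha d (List.mem_cons_of_mem _ hd),
          gen7_eq_nL c (ha c List.mem_cons_self), show hv (c :: u) = (nL c : HN) * hv u from
            congrArg Subtype.val (ev_cons c u)]
  rw [conjWord, List.map_append, List.map_append, List.prod_append, List.prod_append, prod_invL, hg,
    conjX]
  simp [gen7, pow_two]

/-- The matrix of the invariants of an element. -/
noncomputable def invM (g : HN) : M133 := md mV * ((rho g : M133ˣ) : M133) * md mW

/-- A point as an index of a row or column. -/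
def idx (p : Fin 100) : Fin 133 := ⟨p, by omega⟩

theorem mul_row (A : M133) (p : Fin 100) (k : Fin 133) :
    (md mV * A) (idx p) k = Matrix.vecMul (vec p) A k := by
  rw [Matrix.mul_apply]
  rfl

theorem moves_row (n : N0) (hσ : Moves (n : HN) (act n)) (p : Fin 100) (k : Fin 133) :
    (md mV * ((rho (n : HN) : M133ˣ) : M133)) (idx (act n p)) k = md mV (idx p) k := by
  rw [mul_row, hσ p]
  rfl

/-- The dual vectors are permuted as the permutation says. -/
def MovesW (g : HN) (σ : HNDouble.P) : Prop :=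
  ∀ (r : Fin 133) (q : Fin 100),
    (((rho g : M133ˣ) : M133) * md mW) r (idx q) = md mW r (idx (σ q))

theorem MovesW.mul {g h : HN} {σ τ : HNDouble.P} (hg : MovesW g σ) (hh : MovesW h τ) :
    MovesW (g * h) (σ * τ) := fun r q => by
  rw [map_mul, Units.val_mul, mul_assoc, Equiv.Perm.mul_apply, ← hg r (τ q), Matrix.mul_apply,
    Matrix.mul_apply]
  exact Finset.sum_congr rfl fun k _ => by rw [hh k q]

theorem MovesW.one : MovesW 1 1 := fun r q => by rw [map_one, Units.val_one, one_mul]; rfl

theorem MovesW.inv {g : HN} {σ : HNDouble.P} (hg : MovesW g σ) : MovesW g⁻¹ σ⁻¹ := fun r q => by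
  have e : md mW r (idx (σ⁻¹ q)) = ((rho g⁻¹).val * ((rho g).val * md mW)) r (idx (σ⁻¹ q)) := by
    rw [← mul_assoc, map_inv, Units.inv_mul, one_mul]
  rw [e, Matrix.mul_apply, Matrix.mul_apply]
  exact Finset.sum_congr rfl fun k _ => by rw [hg k (σ⁻¹ q), Equiv.Perm.inv_def, Equiv.apply_symm_apply]

theorem movesW_of_check {c k : ℕ} {σ : HNDouble.P} (hσ : Rep 7 100 k σ)
    (h : movesW k (matL c) = true) : MovesW (gen7 c) σ := by
  unfold movesW at h
  rw [forceList_eq] at h
  simp only [List.all_eq_true, List.mem_range, allF_iff, Nat.beq_eq] at h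
  intro r q
  have e := h r r.2 q q.2
  rw [hσ q] at e
  rw [rho_gen7]
  unfold md
  rw [← dec_mul (p := 19) (n := 133) (by norm_num) (by norm_num) (ok_matL c) mW_ok]
  unfold dec
  exact congrArg (fun v : ℕ => (v : ZMod 19)) e

/-- The graph is kept. -/
def KeepsAdj (σ : HNDouble.P) : Prop := ∀ p q : Fin 100, adjV (σ p : ℕ) (σ q : ℕ) = adjV p q

theorem keeps_of_check {k : ℕ} {σ : HNDouble.P} (hσ : Rep 7 100 k σ) (h : adjOK k = true) :
    KeepsAdj σ := by
  unfold adjOK at h
  simp only [List.all_eq_true, List.mem_range, allF_iff, Nat.beq_eq] at h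
  intro p q
  have e := h p p.2 q q.2
  rwa [hσ p, hσ q] at e

theorem movesW_act (n : N0) : MovesW (n : HN) (act n) ∧ KeepsAdj (act n) := by
  have hn : n ∈ Subgroup.closure ({nX, nY, nZ} : Set N0) := closure_n ▸ Subgroup.mem_top n
  obtain ⟨ax, ay, az⟩ := act_gens
  induction hn using Subgroup.closure_induction with
  | mem g hg =>
    rcases hg with rfl | rfl | rfl
    · rw [ax]
      exact ⟨movesW_of_check (c := 0) (rep_permOf keys_valid.1) movesW_ok.1,
        keeps_of_check (rep_permOf keys_valid.1) adj_ok.1⟩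
    · rw [ay]
      exact ⟨movesW_of_check (c := 2) (rep_permOf keys_valid.2.1) movesW_ok.2.1,
        keeps_of_check (rep_permOf keys_valid.2.1) adj_ok.2.1⟩
    · rw [az]
      exact ⟨movesW_of_check (c := 4) (rep_permOf keys_valid.2.2) movesW_ok.2.2,
        keeps_of_check (rep_permOf keys_valid.2.2) adj_ok.2.2⟩
  | one => exact ⟨by rw [map_one]; exact MovesW.one, by rw [map_one]; exact fun p q => rfl⟩
  | mul a b _ _ iha ihb =>
    exact ⟨by rw [map_mul]; exact iha.1.mul ihb.1, by
      rw [map_mul]; exact fun p q => (iha.2 _ _).trans (ihb.2 p q)⟩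
  | inv a _ iha =>
    refine ⟨by rw [map_inv]; exact iha.1.inv, ?_⟩
    rw [map_inv]
    intro p q
    have := iha.2 ((act a)⁻¹ p) ((act a)⁻¹ q)
    simpa [Equiv.Perm.inv_def] using this.symm

theorem moves_act (n : N0) : Moves (n : HN) (act n) := by
  obtain ⟨σ, hσ⟩ := exists_moves n
  rwa [act_eq n hσ]

theorem invM_shift {g g' : HN} (n : N0) (h : (n : HN) * g' = g * (n : HN)) (p q : Fin 100) :
    invM g (idx (act n p)) (idx (act n q)) = invM g' (idx p) (idx q) := by
  have e : invM g (idx (act n p)) (idx (act n q)) =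
      (md mV * (rho g).val * ((rho (n : HN)).val * md mW)) (idx (act n p)) (idx q) := by
    unfold invM
    rw [Matrix.mul_apply, Matrix.mul_apply]
    exact Finset.sum_congr rfl fun k _ => by rw [(movesW_act n).1 k q]
  rw [e, mul_assoc (md mV), ← mul_assoc (rho g).val, ← Units.val_mul, ← map_mul, ← h, map_mul,
    Units.val_mul, mul_assoc (rho (n : HN)).val, ← mul_assoc (md mV)]
  unfold invM
  rw [mul_assoc (md mV) (rho g').val, Matrix.mul_apply, Matrix.mul_apply]
  exact Finset.sum_congr rfl fun k _ => by rw [moves_row n (moves_act n) p k]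

/-- The colours of a node. -/
noncomputable def colN (i : ℕ) : List ℕ := cols.getD i []

theorem col_ok (i : ℕ) (hi : i < 9) : colOK i = true := by
  match i, hi with
  | 0, _ => exact col_ok0.1
  | 1, _ => exact col_ok0.2.1
  | 2, _ => exact col_ok0.2.2.1
  | 3, _ => exact col_ok0.2.2.2
  | 4, _ => exact col_ok1.1
  | 5, _ => exact col_ok1.2
  | 6, _ => exact col_ok2.1
  | 7, _ => exact col_ok3
  | 8, _ => exact col_ok2.2
  | k + 9, h => omega

/-- The colours `c'` are the colours `c` moved by `σ`. -/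
def Iso (c' c : List ℕ) (σ : HNDouble.P) : Prop :=
  ∀ p q : Fin 100, lk 11 (c.getD (σ p : ℕ) 0) (σ q : ℕ) = lk 11 (c'.getD p 0) q

theorem iso_of_conj {i j : ℕ} (hi : i < 9) (hj : j < 9) (n : N0)
    (h : (n : HN) * conjX j = conjX i * (n : HN)) : Iso (colN j) (colN i) (act n) := by
  have spec : ∀ i < 9, ∃ D : List ℕ, ok 19 133 D = true ∧ md D = invM (conjX i) ∧
      ∀ p q : Fin 100, lk 11 ((colN i).getD p 0) q = colV D p q := by
    intro i hi
    have hc := col_ok i hi
    unfold colOK at hc
    obtain ⟨R, h1, h2, h3⟩ := mulWord_spec _ _ _ oks.2.2.2.2.2.2.2.1 hc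
    rw [forceList_eq] at h1
    refine ⟨PackedMatrix.mul 19 133 R mW, ok_mul (by norm_num) (by norm_num) h2 mW, ?_, fun p q => ?_⟩
    · unfold md invM
      rw [dec_mul (p := 19) (n := 133) (by norm_num) (by norm_num) h2 mW_ok]
      unfold md at h3
      rw [h3, conjWord_eq hi]
      rfl
    · simp only [List.all_eq_true, List.mem_range, allF_iff, Nat.beq_eq] at h1
      exact h1 p p.2 q q.2
  obtain ⟨Di, oi, di, ci⟩ := spec i hi
  obtain ⟨Dj, oj, dj, cj⟩ := spec j hj
  have key : ∀ p q : Fin 100, dig (Di.getD (act n p : ℕ) 0) (act n q : ℕ) = dig (Dj.getD p 0) q := by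
    intro p q
    have e := invM_shift n h p q
    rw [← di, ← dj] at e
    unfold md dec idx at e
    rw [ZMod.natCast_eq_natCast_iff',
      Nat.mod_eq_of_lt (dig_lt_of_ok (by norm_num) (by norm_num) oi (by omega) (by omega)),
      Nat.mod_eq_of_lt (dig_lt_of_ok (by norm_num) (by norm_num) oj (by omega) (by omega))] at e
    exact e
  intro p q
  rw [ci, cj]
  unfold colV
  rw [key p q, key q p, (movesW_act n).2 p q]

theorem lk_pkF {f : ℕ → ℕ} (hf : ∀ j < 100, f j < 2 ^ 40) (p : Fin 100) :
    lk 40 (pkF 40 f 100 0) p = f p := by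
  rw [pkF_range, lk_pk 40 (fun x hx => ?_) (by simp)]
  · simp
  · obtain ⟨j, hj, rfl⟩ := List.mem_map.1 hx
    exact hf j (List.mem_range.1 hj)

theorem hMod_lt : hMod < 2 ^ 40 ∧ 0 < hMod := by unfold hMod; norm_num

theorem newCls_lt (c : List ℕ) (cls j : ℕ) : newCls c cls j < 2 ^ 40 := by
  rw [newCls, forced_eq]
  exact (Nat.mod_lt _ hMod_lt.2).trans hMod_lt.1

theorem rec_sum (f : ℕ → ℕ) (n : ℕ) :
    Nat.rec (motive := fun _ => ℕ) 0 (fun q ih => Nat.add (f q) ih) n = ∑ q ∈ Finset.range n, f q := by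
  induction n with
  | zero => rfl
  | succ m ih =>
    show f m + Nat.rec (motive := fun _ => ℕ) 0 (fun q ih => Nat.add (f q) ih) m = _
    rw [ih, Finset.sum_range_succ, add_comm]

theorem seenSum_eq (row cls : ℕ) :
    seenSum row cls = ∑ q : Fin 100, hsh (lk 11 row q) (lk 40 cls q) := by
  rw [Fin.sum_univ_eq_sum_range (fun q => hsh (lk 11 row q) (lk 40 cls q))]
  unfold seenSum
  exact rec_sum (fun q => hsh (lk 11 row q) (lk 40 cls q)) 100

attribute [local irreducible] hsh seenSum

theorem round_iso {c c' : List ℕ} {σ : HNDouble.P} (hI : Iso c' c σ) {cls cls' : ℕ}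
    (h : ∀ p : Fin 100, lk 40 cls (σ p : ℕ) = lk 40 cls' p) (p : Fin 100) :
    lk 40 (round c cls) (σ p : ℕ) = lk 40 (round c' cls') p := by
  have es : (∑ q : Fin 100, hsh (lk 11 (c.getD (σ p : ℕ) 0) q) (lk 40 cls q)) =
      ∑ q : Fin 100, hsh (lk 11 (c'.getD p 0) q) (lk 40 cls' q) := by
    rw [← Equiv.sum_comp σ]
    exact Finset.sum_congr rfl fun q _ => by rw [h q, hI p q]
  rw [round, round, forced_eq, forced_eq, lk_pkF (fun j _ => newCls_lt _ _ _),
    lk_pkF (fun j _ => newCls_lt _ _ _), newCls, newCls, forced_eq, forced_eq, seenSum_eq, seenSum_eq,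
    es, h p, hI p p]

theorem cls0_bound (base : List ℕ) (p j : ℕ) :
    List.rec (motive := fun _ => ℕ → ℕ) (fun _ => 0)
      (fun b _ ih j => Bool.rec (motive := fun _ => ℕ) (ih (Nat.succ j)) (Nat.succ j) (Nat.beq p b))
      base j ≤ j + base.length := by
  induction base generalizing j with
  | nil => simp
  | cons b t ih =>
    simp only [List.length_cons]
    cases Nat.beq p b
    · exact (ih (Nat.succ j)).trans (by omega)
    · show Nat.succ j ≤ _
      omega

theorem cls0_fix {σ : HNDouble.P} (base : List ℕ) (hσ : ∀ b : Fin 100, (b : ℕ) ∈ base → σ b = b)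
    (p : Fin 100) : cls0 base (σ p : ℕ) = cls0 base p := by
  suffices ∀ j, List.rec (motive := fun _ => ℕ → ℕ) (fun _ => 0)
      (fun b _ ih j => Bool.rec (motive := fun _ => ℕ) (ih (Nat.succ j)) (Nat.succ j) (Nat.beq (σ p : ℕ) b))
      base j = List.rec (motive := fun _ => ℕ → ℕ) (fun _ => 0)
      (fun b _ ih j => Bool.rec (motive := fun _ => ℕ) (ih (Nat.succ j)) (Nat.succ j) (Nat.beq (p : ℕ) b))
      base j from this 0
  intro j
  induction base generalizing j with
  | nil => rfl
  | cons b t ih =>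
    have e : Nat.beq (σ p : ℕ) b = Nat.beq (p : ℕ) b := by
      rw [Bool.eq_iff_iff, Nat.beq_eq, Nat.beq_eq]
      constructor
      · intro h
        have hb := hσ (σ p) (by rw [h]; exact List.mem_cons_self)
        rwa [σ.injective hb] at h
      · intro h
        rw [hσ p (by rw [h]; exact List.mem_cons_self)]
        exact h
    simp only [e]
    cases Nat.beq (p : ℕ) b
    · exact ih (fun c hc => hσ c (List.mem_cons_of_mem _ hc)) _
    · rfl

theorem refine_iso {c c' : List ℕ} {σ : HNDouble.P} (hI : Iso c' c σ) {base : List ℕ}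
    (hb : base.length < 100) (hσ : ∀ b : Fin 100, (b : ℕ) ∈ base → σ b = b) (p : Fin 100) :
    lk 40 (refine c base) (σ p : ℕ) = lk 40 (refine c' base) p := by
  have h0 : ∀ p : Fin 100, lk 40 (pkF 40 (cls0 base) 100 0) (σ p : ℕ) =
      lk 40 (pkF 40 (cls0 base) 100 0) p := fun p => by
    have hlt : ∀ j < 100, cls0 base j < 2 ^ 40 := fun j _ =>
      lt_of_le_of_lt (cls0_bound base j 0) (lt_of_lt_of_le (by omega : 0 + base.length < 100) (by norm_num))
    rw [lk_pkF hlt, lk_pkF hlt, cls0_fix base hσ]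
  simp only [refine, forced_eq]
  exact round_iso hI (round_iso hI (round_iso hI (round_iso hI h0))) p

theorem hist_eq (c : List ℕ) : hist c = ∑ p : Fin 100, hsh 0 (lk 40 (refine c []) p) := by
  rw [Fin.sum_univ_eq_sum_range (fun p => hsh 0 (lk 40 (refine c []) p)), hist, forced_eq]
  exact rec_sum (fun p => hsh 0 (lk 40 (refine c []) p)) 100

theorem hist_iso {c c' : List ℕ} {σ : HNDouble.P} (hI : Iso c' c σ) : hist c = hist c' := by
  rw [hist_eq, hist_eq, ← Equiv.sum_comp σ]
  exact Finset.sum_congr rfl fun p _ => by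
    rw [refine_iso hI (by simp) (fun b hb => absurd hb List.not_mem_nil)]

theorem classSize_eq (cls b : ℕ) :
    classSize cls b = ((Finset.range 100).filter fun p => lk 40 cls p = lk 40 cls b).card := by
  suffices ∀ n, Nat.rec (motive := fun _ => ℕ) 0
      (fun p ih => Bool.rec (motive := fun _ => ℕ) ih (Nat.succ ih) (Nat.beq (lk 40 cls p) (lk 40 cls b))) n =
      ((Finset.range n).filter fun p => lk 40 cls p = lk 40 cls b).card from this 100
  intro n
  induction n with
  | zero => rfl
  | succ n ih =>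
    rw [Finset.range_add_one, Finset.filter_insert]
    split_ifs with hp
    · rw [Finset.card_insert_of_notMem (by simp), ← ih]
      show Bool.rec (motive := fun _ => ℕ) _ _ (Nat.beq (lk 40 cls n) (lk 40 cls b)) = _
      rw [show Nat.beq (lk 40 cls n) (lk 40 cls b) = true from by rw [Nat.beq_eq]; exact hp]
    · rw [← ih]
      show Bool.rec (motive := fun _ => ℕ) _ _ (Nat.beq (lk 40 cls n) (lk 40 cls b)) = _
      rw [show Nat.beq (lk 40 cls n) (lk 40 cls b) = false from by
        rw [Bool.eq_false_iff, Ne, Nat.beq_eq]; exact hp]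

theorem baseOK_card {c : List ℕ} : ∀ (l : List (ℕ × ℕ)) (pre : List ℕ) (S : Subgroup HNDouble.P),
    pre.length + l.length < 100 → baseOK c l pre = true → (∀ σ ∈ S, Iso c c σ) →
    (∀ σ ∈ S, ∀ b : Fin 100, (b : ℕ) ∈ pre → σ b = b) → Nat.card S ≤ (l.map fun e => e.2).prod
  | [], pre, S, hlen, h, hI, hfix => by
    simp only [baseOK, forced_eq, discrete, allF_iff, Bool.or_eq_true, Bool.not_eq_true', Nat.beq_eq] at h
    have e : S = ⊥ := by
      rw [eq_bot_iff]
      intro σ hσ
      rw [Subgroup.mem_bot]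
      refine Equiv.ext fun p => Fin.ext ?_
      have := refine_iso (hI σ hσ) (base := pre) (by simpa using hlen) (hfix σ hσ) p
      rcases h _ (σ p).2 p p.2 with h' | h'
      · simpa using h'
      · rw [Bool.eq_false_iff, Ne, Nat.beq_eq] at h'
        exact absurd this h'
    rw [e, List.map_nil, List.prod_nil, Subgroup.card_bot]
  | (b, s) :: r, pre, S, hlen, h, hI, hfix => by
    classical
    simp only [baseOK, forced_eq, Bool.and_eq_true, Nat.blt_eq, Nat.ble_eq] at h
    obtain ⟨⟨hb, hs⟩, hr⟩ := h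
    let B : Fin 100 := ⟨b, hb⟩
    have horb : (MulAction.orbit S B).ncard ≤ s := by
      refine le_trans ?_ hs
      rw [classSize_eq, ← Set.ncard_coe_finset, ← Set.ncard_image_of_injective _ Fin.val_injective]
      refine Set.ncard_le_ncard ?_ (Finset.finite_toSet _)
      rintro _ ⟨_, ⟨⟨σ, hσ⟩, rfl⟩, rfl⟩
      simp only [Finset.coe_filter, Set.mem_setOf_eq, Finset.mem_range]
      exact ⟨(σ B).2, refine_iso (hI σ hσ) (base := pre) (by simp at hlen ⊢; omega) (hfix σ hσ) B⟩
    let S' : Subgroup HNDouble.P := S ⊓ MulAction.stabilizer HNDouble.P B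
    have hS' : Nat.card S' = Nat.card (MulAction.stabilizer S B) :=
      Nat.card_congr
        { toFun := fun g => ⟨⟨g.1, g.2.1⟩, g.2.2⟩
          invFun := fun g => ⟨g.1.1, g.1.2, g.2⟩
          left_inv := fun _ => rfl
          right_inv := fun _ => rfl }
    have ih := baseOK_card r (pre ++ [b]) S' (by simp at hlen ⊢; omega) hr (fun σ hσ => hI σ hσ.1)
      fun σ hσ x hx => by
        rcases List.mem_append.1 hx with hx | hx
        · exact hfix σ hσ.1 x hx
        · rw [show x = B from Fin.ext (List.mem_singleton.1 hx)]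
          exact hσ.2
    have hmul := (MulAction.stabilizer S B).index_mul_card
    rw [MulAction.index_stabilizer] at hmul
    rw [List.map_cons, List.prod_cons, ← hmul]
    exact Nat.mul_le_mul horb (hS' ▸ ih)

theorem nodeStab_conj {i j : ℕ} (n : N0) (h : Eqv (gN i * (n : HN)) (gN j)) :
    (n : HN) * conjX j = conjX i * (n : HN) := by
  obtain ⟨m, hm⟩ : ∃ m : N0, gN j = (m : HN) * (gN i * (n : HN)) := ⟨⟨_, Eqv.symm h⟩, by
    rw [inv_mul_cancel_right]⟩
  have hc : (m : HN)⁻¹ * gX ^ 2 * (m : HN) = gX ^ 2 := by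
    have e := Subgroup.mem_center_iff.1 sq_facts.1 m
    have e' : (m : HN) * gX ^ 2 = gX ^ 2 * (m : HN) := congrArg Subtype.val e
    rw [mul_assoc, ← e', inv_mul_cancel_left]
  calc (n : HN) * conjX j
      = (gN i)⁻¹ * ((m : HN)⁻¹ * gX ^ 2 * (m : HN)) * gN i * (n : HN) := by rw [conjX, hm]; group
    _ = conjX i * (n : HN) := by rw [hc, conjX]

theorem eqv_eq {i j : ℕ} (hi : i < 9) (hj : j < 9) (n : N0) (h : Eqv (gN i * (n : HN)) (gN j)) :
    i = j := by
  have e := congrArg (fun v => Nat.mod v hMod) (hist_iso (iso_of_conj hi hj n (nodeStab_conj n h)))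
  have g : ∀ k < 9, Nat.mod (hist (colN k)) hMod =
      [51443967934, 909139587944, 879359220513, 192236074688, 310436278433, 332234250635, 1010359874949,
        294803484591, 502453446668].getD k 0 := fun k hk => by
    rw [← hists_ok, List.getD_eq_getElem _ _ (by simpa using hk)]
    simp [colN]
  beta_reduce at e
  rw [g i hi, g j hj] at e
  interval_cases i <;> interval_cases j <;> first | rfl | exact absurd e (by norm_num)

theorem card_act_ker : Nat.card act.ker ≤ 2 := by
  obtain ⟨-, hH, -⟩ := OutCert.HS.H_spec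
  let f : HNDouble.K →* HNDouble.P := act.comp HNDouble.K.subtype
  have hsub : OutCert.HS.H ≤ f.range := by
    intro s hs
    obtain ⟨n, rfl⟩ := H_le_range hs
    exact ⟨⟨n, MonoidHom.mem_ker.2 (MonoidHom.mem_ker.1 (OutCert.HS.H_le_sign hs))⟩, rfl⟩
  have hr : 44352000 ≤ Nat.card f.range := hH ▸ Subgroup.card_le_of_le hsub
  have h1 := f.ker.card_mul_index
  rw [Subgroup.index_ker] at h1
  have h2 := HNDouble.K.card_mul_index
  rw [K_index, card_N0_eq] at h2
  have hle : act.ker ≤ HNDouble.K := fun a ha => by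
    rw [HNDouble.K, MonoidHom.mem_ker, MonoidHom.comp_apply, MonoidHom.mem_ker.1 ha, map_one]
  let g : act.ker → f.ker := fun a => ⟨⟨a, hle a.2⟩, a.2⟩
  have hg : Function.Injective g := fun a b e =>
    Subtype.ext (congrArg (fun z : f.ker => ((z : HNDouble.K) : N0)) e)
  refine le_trans (Nat.card_le_card_of_injective g hg) ?_
  by_contra hk
  have := Nat.mul_le_mul (by omega : 3 ≤ Nat.card f.ker) hr
  omega

theorem eqList_refl : ∀ l : List ℕ, eqList l l = true
  | [] => rfl
  | a :: t => by
    show (Nat.beq a a && eqList t t) = true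
    rw [eqList_refl t, Bool.and_true, Nat.beq_eq]

theorem sq_notMem {i : ℕ} (h1 : 1 ≤ i) (h7 : i ≤ 7) (h3 : i ≠ 3) : nX ^ 2 ∉ nodeStab i := by
  intro hm
  have hok : sqOK i = true := by
    interval_cases i
    exacts [sq_ok0.1, sq_ok0.2.1, absurd rfl h3, sq_ok0.2.2, sq_ok1.1, sq_ok1.2.1, sq_ok1.2.2]
  unfold sqOK at hok
  obtain ⟨R, hR1, hR2, hR3⟩ := mulWord_spec _ _ _ oks.2.2.2.2.2.2.2.1 hok
  obtain ⟨S, hS1, hS2, hS3⟩ := mulWord_spec _ _ _ hR2 hR1
  rw [conjWord_eq (by omega)] at hR3
  simp only [Bool.not_eq_true', ← Bool.not_eq_true] at hS1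
  apply hS1
  rw [List.all_eq_true]
  intro p hp
  rw [List.mem_range] at hp
  rw [Nat.beq_eq]
  have hcomm := nodeStab_conj (i := i) (j := i) (nX ^ 2) (mem_nodeStab.1 hm)
  have hmd : ∀ j : Fin 133, md S ⟨p, by omega⟩ j = md R ⟨p, by omega⟩ j := by
    intro j
    rw [hS3, hR3, mul_assoc, ← Units.val_mul, ← map_mul]
    have e : ([0, 0].map gen7).prod = ((nX ^ 2 : N0) : HN) := by
      simp [gen7, nX, pow_two]
    rw [e, ← hcomm, map_mul, Units.val_mul, ← mul_assoc, Matrix.mul_apply, Matrix.mul_apply]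
    refine Finset.sum_congr rfl fun k _ => congrArg (fun a => a * _) ?_
    have := moves_row (nX ^ 2) (moves_act _) ⟨p, hp⟩ k
    rw [act_sq, Equiv.Perm.one_apply] at this
    exact this
  rw [← row_of_ok hS2 (show p < 133 by omega), ← row_of_ok hR2 (show p < 133 by omega), red_eq, red_eq]
  refine Finset.sum_congr rfl fun k hk => ?_
  have e := hmd ⟨k, Finset.mem_range.1 hk⟩
  unfold md dec at e
  rw [ZMod.natCast_eq_natCast_iff'] at e
  rw [e]

theorem card_map_le (i : Fin 9) (h : (i : ℕ) ≠ 0) :
    Nat.card ((nodeStab i).map act) ≤ ((bases.getD i []).map fun e => e.2).prod := by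
  have hok : nodeOK i = true := by
    fin_cases i
    exacts [absurd rfl h, nodes_ok0.1, nodes_ok0.2.1, nodes_ok0.2.2.1, nodes_ok0.2.2.2, nodes_ok1.1,
      nodes_ok1.2.1, nodes_ok1.2.2.1, nodes_ok1.2.2.2]
  refine baseOK_card _ [] _ (base_len i) hok ?_ (fun σ _ b hb => absurd hb List.not_mem_nil)
  rintro _ ⟨n, hn, rfl⟩
  exact iso_of_conj i.2 i.2 n (nodeStab_conj n (mem_nodeStab.1 hn))

theorem twist_notMem : nX⁻¹ ∉ nodeStab 3 := by
  intro hm
  have hcomm := nodeStab_conj (i := 3) (j := 3) nX⁻¹ (mem_nodeStab.1 hm)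
  have hok := twist_ok.1
  unfold twistOK at hok
  have h1 : ok 19 133 (PackedMatrix.one 133) = true := oks.2.2.2.2.2.2.2.2
  obtain ⟨R, hR1, hR2, hR3⟩ := mulWord_spec _ _ _ h1 hok
  obtain ⟨S, hS1, hS2, hS3⟩ := mulWord_spec _ _ _ h1 hR1
  have e : ((1 :: conjWord 3).map gen7).prod = ((conjWord 3 ++ [1]).map gen7).prod := by
    rw [List.map_cons, List.prod_cons, List.map_append, List.prod_append, List.map_singleton,
      List.prod_singleton, conjWord_eq (by norm_num), show gen7 1 = ((nX⁻¹ : N0) : HN) from rfl]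
    exact hcomm
  rw [e, ← hS3] at hR3
  have hne : R ≠ S := by
    rintro rfl
    simp [eqList_refl] at hS1
  apply hne
  have hl : R.length = S.length := by rw [length_of_ok hR2, length_of_ok hS2]
  refine List.ext_getElem hl fun k hk hk' => ?_
  have hk133 : k < 133 := length_of_ok hR2 ▸ hk
  rw [← List.getD_eq_getElem R 0 hk, ← List.getD_eq_getElem S 0 hk', ← row_of_ok hR2 hk133,
    ← row_of_ok hS2 hk133, red_eq, red_eq]
  refine Finset.sum_congr rfl fun l hl' => ?_
  have e' := congrFun (congrFun hR3 ⟨k, hk133⟩) ⟨l, Finset.mem_range.1 hl'⟩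
  unfold md dec at e'
  rw [ZMod.natCast_eq_natCast_iff'] at e'
  rw [e']

theorem card_three : Nat.card (nodeStab 3) ≤ 80640 := by
  let A : Subgroup N0 :=
    { carrier := {n | Iso (colN 3) (colN 3) (act n)}
      one_mem' := by rw [Set.mem_setOf_eq, map_one]; exact fun p q => rfl
      mul_mem' := fun {a b} ha hb => by
        rw [Set.mem_setOf_eq, map_mul]
        exact fun p q => (ha _ _).trans (hb p q)
      inv_mem' := fun {a} ha => by
        rw [Set.mem_setOf_eq, map_inv]
        intro p q
        have := ha ((act a)⁻¹ p) ((act a)⁻¹ q)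
        simpa [Equiv.Perm.inv_def] using this.symm }
  have hle : nodeStab 3 ≤ A := fun n hn =>
    iso_of_conj (by norm_num) (by norm_num) n (nodeStab_conj n (mem_nodeStab.1 hn))
  have hx : nX⁻¹ ∈ A := by
    apply A.inv_mem
    show Iso (colN 3) (colN 3) (act nX)
    rw [act_gens.1]
    have h := twist_ok.2
    unfold twistIso at h
    simp only [List.all_eq_true, List.mem_range, allF_iff, Nat.beq_eq] at h
    intro p q
    have e := h p p.2 q q.2
    rwa [(rep_permOf keys_valid.1) p, (rep_permOf keys_valid.1) q] at e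
  have hS : Nat.card (A.map act) ≤ 80640 := by
    have hok : nodeOK 3 = true := nodes_ok0.2.2.1
    refine le_trans (baseOK_card _ [] _ (base_len 3) hok ?_ (fun σ _ b hb => absurd hb List.not_mem_nil))
      (le_of_eq ?_)
    · rintro _ ⟨n, hn, rfl⟩
      exact hn
    · have := congrArg (fun l => l.getD 3 0) bases_prod
      simpa [List.getD_eq_getElem?_getD, bases_len] using this
  have hA : Nat.card A ≤ 161280 := by
    let f : A →* HNDouble.P := act.comp A.subtype
    have hr : f.range = A.map act := by rw [MonoidHom.range_comp, Subgroup.range_subtype]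
    have hk := f.ker.card_mul_index
    rw [Subgroup.index_ker, hr] at hk
    let g : f.ker → act.ker := fun a => ⟨(a : A), a.2⟩
    have hg : Function.Injective g := fun a b e =>
      Subtype.ext (Subtype.ext (congrArg (fun z : act.ker => (z : N0)) e))
    rw [← hk]
    exact le_trans (Nat.mul_le_mul ((Nat.card_le_card_of_injective g hg).trans card_act_ker) hS) (by norm_num)
  have h1 : (nodeStab 3).relIndex A ≠ 1 := fun h => twist_notMem (Subgroup.relIndex_eq_one.1 h hx)
  have h0 : (nodeStab 3).relIndex A ≠ 0 := Subgroup.index_ne_zero_of_finite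
  have h2 := ((nodeStab 3).subgroupOf A).card_mul_index
  rw [Nat.card_congr (Subgroup.subgroupOfEquivOfLe hle).toEquiv] at h2
  change Nat.card (nodeStab 3) * (nodeStab 3).relIndex A = Nat.card A at h2
  have := Nat.mul_le_mul_left (Nat.card (nodeStab 3)) (by omega : 2 ≤ (nodeStab 3).relIndex A)
  omega

theorem card_nodeStab_le (i : Fin 9) : Nat.card (nodeStab i) ≤ chainSize.getD i 0 := by
  by_cases h0 : (i : ℕ) = 0
  · rw [h0]
    exact le_trans (Subgroup.card_le_card_group _) card_N0_eq.le
  by_cases h3 : (i : ℕ) = 3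
  · rw [h3]
    exact card_three
  have hb := card_map_le i h0
  have hp : ((bases.getD i []).map fun e => e.2).prod =
      [88704000, 126000, 5040, 80640, 1440, 500, 240, 640, 15360].getD (i : ℕ) 0 := by
    rw [← bases_prod]
    rw [List.getD_eq_getElem _ _ (by rw [bases_len]; exact i.2), List.getD_eq_getElem _ _ (by simp [bases_len])]
    simp
  rw [hp] at hb
  let f : nodeStab i →* HNDouble.P := act.comp (nodeStab i).subtype
  have hr : f.range = (nodeStab i).map act := by
    rw [MonoidHom.range_comp, Subgroup.range_subtype]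
  have hk := f.ker.card_mul_index
  rw [Subgroup.index_ker, hr] at hk
  let g : f.ker → act.ker := fun a => ⟨(a : nodeStab i), a.2⟩
  have hg : Function.Injective g := fun a b e => Subtype.ext (Subtype.ext (congrArg (fun z : act.ker => (z : N0)) e))
  rcases Nat.lt_or_ge (i : ℕ) 8 with h8 | h8
  · have hk1 : Nat.card f.ker ≤ 1 := by
      by_contra hc
      have hsurj : Function.Surjective g := ((Nat.bijective_iff_injective_and_card g).2
        ⟨hg, le_antisymm (Nat.card_le_card_of_injective g hg) (card_act_ker.trans (by omega))⟩).2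
      obtain ⟨a, ha⟩ := hsurj ⟨nX ^ 2, act_sq⟩
      have hm := (a : nodeStab i).2
      rw [show ((a : nodeStab i) : N0) = nX ^ 2 from congrArg Subtype.val ha] at hm
      exact sq_notMem (by omega) (by omega) h3 hm
    rw [← hk]
    refine le_trans (Nat.mul_le_mul hk1 hb) ?_
    rw [one_mul]
    fin_cases i <;> simp [chainSize] at h0 h8 ⊢
  · rw [← hk]
    refine le_trans (Nat.mul_le_mul ((Nat.card_le_card_of_injective g hg).trans card_act_ker) hb) ?_
    have : i = 8 := Fin.ext (by have := i.2; omega)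
    subst this
    simp [chainSize]

theorem index_nodeStab (i : Fin 9) :
    (nodeStab i).index = [1, 1408, 35200, 2200, 123200, 354816, 739200, 277200, 5775].getD (i : ℕ) 0 := by
  have e : Nat.card (nodeStab i) = chainSize.getD i 0 := le_antisymm (card_nodeStab_le i) (chainSize_le i)
  have h2 := (nodeStab i).card_mul_index
  rw [card_N0_eq, e] at h2
  fin_cases i <;> simp [chainSize] at h2 ⊢ <;> omega

theorem orbMap_injective : Function.Injective orbMap := by
  rintro ⟨i, a⟩ ⟨j, b⟩ h
  induction a using QuotientGroup.induction_on with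
  | _ a =>
    induction b using QuotientGroup.induction_on with
    | _ b =>
      change ((a : HN) * (gN i)⁻¹ : HN ⧸ N0) = (((b : HN) * (gN j)⁻¹ : HN) : HN ⧸ N0) at h
      rw [QuotientGroup.eq] at h
      have h' : Eqv (gN i * ((a⁻¹ * b : N0) : HN)) (gN j) := by
        rw [Eqv, Subgroup.coe_mul, Subgroup.coe_inv]
        simpa only [mul_inv_rev, inv_inv, mul_assoc] using h
      obtain rfl : i = j := Fin.ext (eqv_eq i.2 j.2 _ h')
      exact congrArg (Sigma.mk i) (QuotientGroup.eq.2 (mem_nodeStab.2 h'))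

theorem index_N0 : N0.index = 1539000 := by
  rw [Subgroup.index, ← Nat.card_congr (Equiv.ofBijective orbMap ⟨orbMap_injective, orbMap_surjective⟩),
    Nat.card_sigma]
  refine (Finset.sum_congr rfl fun i _ => index_nodeStab i).trans ?_
  simp [Fin.sum_univ_succ]

end CfsgLib.Sporadic.CosetCert.HNIndex
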